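import Mathlib

/-!
# Conjugation action on a section (helper4)
-/

set_option autoImplicit false

namespace Cfsg.Agent.Lib.H4.Hup

open Function

/-- the conjugation action of `G` on `N / Z` as a homomorphism, with its kernel -/
theorem exists_conj_hom {G : Type*} [Group G] (N Z : Subgroup G) [hN : N.Normal] [hZ : Z.Normal] :
    ∃ φ : G →* MulAut (↥N ⧸ Z.subgroupOf N),
      ∀ g, g ∈ φ.ker ↔ ∀ a ∈ N, a * g * a⁻¹ * g⁻¹ ∈ Z := by
  have hZiff : ∀ g a : G, (g * a * g⁻¹)⁻¹ * a ∈ Z ↔ a * g * a⁻¹ * g⁻¹ ∈ Z := by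
    intro g a
    rw [hZ.mem_comm_iff]
    have : a * (g * a * g⁻¹)⁻¹ = a * g * a⁻¹ * g⁻¹ := by group
    rw [this]
  let Z' : Subgroup ↥N := Z.subgroupOf N
  haveI : Z'.Normal := inferInstance
  let θ : G → (↥N ⧸ Z') →* (↥N ⧸ Z') := fun g =>
    QuotientGroup.map Z' Z' ((MulAut.conjNormal g : MulAut ↥N).toMonoidHom) (by
      intro a ha
      rw [Subgroup.mem_comap]
      show (MulAut.conjNormal g a : ↥N) ∈ Z.subgroupOf N
      rw [Subgroup.mem_subgroupOf, MulAut.conjNormal_apply]
      exact hZ.conj_mem _ (Subgroup.mem_subgroupOf.mp ha) g)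
  have hθ : ∀ g (a : ↥N), θ g (QuotientGroup.mk a) = QuotientGroup.mk (MulAut.conjNormal g a) :=
    fun g a => rfl
  have hθmul : ∀ g h a, θ (g * h) a = θ g (θ h a) := by
    intro g h a
    induction a using QuotientGroup.induction_on with
    | _ a =>
      rw [hθ, hθ, hθ, map_mul]
      rfl
  have hθone : ∀ a, θ 1 a = a := by
    intro a
    induction a using QuotientGroup.induction_on with
    | _ a =>
      rw [hθ, map_one]
      rfl
  let ψ : G → MulAut (↥N ⧸ Z') := fun g =>
    { toFun := θ g
      invFun := θ g⁻¹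
      left_inv := fun a => by rw [← hθmul, inv_mul_cancel, hθone]
      right_inv := fun a => by rw [← hθmul, mul_inv_cancel, hθone]
      map_mul' := map_mul (θ g) }
  have hψ : ∀ g a, ψ g a = θ g a := fun g a => rfl
  let φ : G →* MulAut (↥N ⧸ Z') := MonoidHom.mk' ψ (by
    intro g h
    ext a
    rw [MulAut.mul_apply, hψ, hψ, hψ, hθmul])
  refine ⟨φ, ?_⟩
  intro g
  rw [MonoidHom.mem_ker]
  constructor
  · intro h a ha
    have h1 : φ g (QuotientGroup.mk (⟨a, ha⟩ : ↥N)) = QuotientGroup.mk (⟨a, ha⟩ : ↥N) := by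
      rw [h]
      rfl
    have h2 : θ g (QuotientGroup.mk (⟨a, ha⟩ : ↥N)) = QuotientGroup.mk (⟨a, ha⟩ : ↥N) := h1
    rw [hθ, QuotientGroup.eq] at h2
    have h3 : ((MulAut.conjNormal g (⟨a, ha⟩ : ↥N))⁻¹ * ⟨a, ha⟩ : ↥N) ∈ Z.subgroupOf N := h2
    rw [Subgroup.mem_subgroupOf] at h3
    rw [← hZiff]
    simpa [MulAut.conjNormal_apply] using h3
  · intro h
    ext a
    show θ g a = a
    induction a using QuotientGroup.induction_on with
    | _ b =>
      rw [hθ, QuotientGroup.eq]
      show ((MulAut.conjNormal g b)⁻¹ * b : ↥N) ∈ Z.subgroupOf N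
      rw [Subgroup.mem_subgroupOf]
      have := (hZiff g b).mpr (h b b.2)
      simpa [MulAut.conjNormal_apply] using this

/-- a group of order four has at most six automorphisms -/
theorem card_mulAut_dvd_six {Q : Type*} [Group Q] (h : Nat.card Q = 4) :
    Nat.card (MulAut Q) ∣ 6 := by
  classical
  haveI : Finite Q := Nat.finite_of_card_ne_zero (by rw [h]; norm_num)
  haveI : Fintype Q := Fintype.ofFinite Q
  let S := {x : Q // x ≠ 1}
  let f : MulAut Q →* Equiv.Perm S :=
    { toFun := fun e =>
        { toFun := fun x => ⟨e x.1, fun h1 => x.2 (by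
            have : e x.1 = e 1 := by rw [h1, map_one]
            exact e.injective this)⟩
          invFun := fun x => ⟨e.symm x.1, fun h1 => x.2 (by
            have : e.symm x.1 = e.symm 1 := by rw [h1, map_one]
            exact e.symm.injective this)⟩
          left_inv := fun x => Subtype.ext (e.symm_apply_apply x.1)
          right_inv := fun x => Subtype.ext (e.apply_symm_apply x.1) }
      map_one' := by
        ext x
        rfl
      map_mul' := by
        intro a b
        ext x
        rfl }
  have hf : Injective f := by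
    intro a b hab
    ext x
    by_cases hx : x = 1
    · rw [hx, map_one, map_one]
    · have := congrArg (fun p : Equiv.Perm S => ((p ⟨x, hx⟩ : S) : Q)) hab
      exact this
  have h1 := Subgroup.card_dvd_of_injective f hf
  have h2 : Nat.card (Equiv.Perm S) = 6 := by
    rw [Nat.card_eq_fintype_card, Fintype.card_perm]
    have : Fintype.card S = 3 := by
      have h3 : Fintype.card S = Fintype.card Q - 1 := by
        rw [Fintype.card_subtype_compl, Fintype.card_subtype_eq]
      rw [h3, ← Nat.card_eq_fintype_card, h]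
    rw [this]
    rfl
  rwa [h2] at h1

end Cfsg.Agent.Lib.H4.Hup
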