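import Mathlib

/-!
# The final arithmetic (helper4)
-/

set_option autoImplicit false

namespace Cfsg.Agent.Lib.H4.Hup

theorem two_mul_le_two_pow (m : ℕ) (hm : 1 ≤ m) : 2 * m ≤ 2 ^ m := by
  induction m with
  | zero => omega
  | succ m ih =>
    rcases Nat.eq_zero_or_pos m with h | h
    · subst h; norm_num
    · have := ih h
      rw [pow_succ]
      omega

theorem pow_lt_three_pow (m : ℕ) (hm : 4 ≤ m) : 2 ^ (5 * m) < 3 ^ (2 ^ m - 1) := by
  induction m with
  | zero => omega
  | succ m ih =>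
    rcases Nat.lt_or_ge m 4 with h | h
    · have : m = 3 := by omega
      subst this
      norm_num
    · have h1 := ih h
      have h2 : (32 : ℕ) ≤ 3 ^ (2 ^ m) := by
        calc (32 : ℕ) ≤ 3 ^ 4 := by norm_num
          _ ≤ 3 ^ (2 ^ m) := by
            apply Nat.pow_le_pow_right (by norm_num)
            calc 4 = 2 ^ 2 := by norm_num
              _ ≤ 2 ^ m := Nat.pow_le_pow_right (by norm_num) (by omega)
      have h3 : 2 ^ (5 * (m + 1)) = 32 * 2 ^ (5 * m) := by
        rw [show 5 * (m + 1) = 5 * m + 5 by ring, pow_add]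
        norm_num [mul_comm]
      have h4 : 3 ^ (2 ^ (m + 1) - 1) = 3 ^ (2 ^ m) * 3 ^ (2 ^ m - 1) := by
        rw [← pow_add]
        congr 1
        have : 1 ≤ 2 ^ m := Nat.one_le_two_pow
        rw [pow_succ]
        omega
      rw [h3, h4]
      have h5 : 0 < 3 ^ (2 ^ m - 1) := by positivity
      calc 32 * 2 ^ (5 * m) < 32 * 3 ^ (2 ^ m - 1) := by
            apply Nat.mul_lt_mul_of_pos_left h1 (by norm_num)
        _ ≤ 3 ^ (2 ^ m) * 3 ^ (2 ^ m - 1) := Nat.mul_le_mul_right _ h2

/-- the primitive prime divisor property of a Fermat prime -/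
theorem fermat_ppd {m : ℕ} (hm : 1 ≤ m) (k : ℕ) (hk0 : 0 < k) (hk : k < 2 * m) :
    ¬ (2 ^ m + 1) ∣ 2 ^ k - 1 := by
  intro hdvd
  have h1 : 1 ≤ 2 ^ k - 1 := by
    have : 2 ^ 1 ≤ 2 ^ k := Nat.pow_le_pow_right (by norm_num) hk0
    omega
  have h2 : 2 ^ m + 1 ≤ 2 ^ k - 1 := Nat.le_of_dvd (by omega) hdvd
  have hmk : m < k := by
    by_contra hle
    push Not at hle
    have : 2 ^ k ≤ 2 ^ m := Nat.pow_le_pow_right (by norm_num) hle
    omega
  have h3 : (2 ^ k - 1) + (2 ^ (k - m) + 1) = 2 ^ (k - m) * (2 ^ m + 1) := by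
    have : 2 ^ k = 2 ^ (k - m) * 2 ^ m := by
      rw [← pow_add]
      congr 1
      omega
    have h4 : 1 ≤ 2 ^ k := Nat.one_le_two_pow
    rw [mul_add, mul_one, ← this]
    omega
  have h5 : (2 ^ m + 1) ∣ (2 ^ k - 1) + (2 ^ (k - m) + 1) := by
    rw [h3]
    exact dvd_mul_left _ _
  have h6 : (2 ^ m + 1) ∣ 2 ^ (k - m) + 1 := (Nat.dvd_add_right hdvd).mp h5
  have h7 : 2 ^ m + 1 ≤ 2 ^ (k - m) + 1 := Nat.le_of_dvd (by positivity) h6
  have h8 : 2 ^ (k - m) < 2 ^ m := Nat.pow_lt_pow_right (by norm_num) (by omega)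
  omega

theorem arith_final {q m n : ℕ} (hq : q.Prime) (hq2 : q ≠ 2) (hm : 1 ≤ m) (hn : n = 2 ^ m)
    (hp : (n + 1).Prime)
    (hdvd : q ^ n - 1 ∣ (q - 1) * ((n * n) * ((n * n - 1) * (2 * m)))) :
    q ^ n ∈ ({9, 25, 49, 121, 529, 81} : Set ℕ) := by
  have hq3 : 3 ≤ q := by
    have := hq.two_le
    omega
  have hn2 : 2 ≤ n := by
    rw [hn]
    calc 2 = 2 ^ 1 := by norm_num
      _ ≤ 2 ^ m := Nat.pow_le_pow_right (by norm_num) hm
  obtain ⟨K, hK⟩ : ∃ K, K = (n * n) * ((n * n - 1) * (2 * m)) := ⟨_, rfl⟩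
  rw [← hK] at hdvd
  have hnn : 4 ≤ n * n := by nlinarith
  have hKpos : 0 < K := by
    rw [hK]
    apply Nat.mul_pos (by omega)
    apply Nat.mul_pos (by omega) (by omega)
  -- `q ^ (n - 1) ≤ K`
  have hle : q ^ (n - 1) ≤ K := by
    have h1 : q ^ n - 1 ≤ (q - 1) * K := Nat.le_of_dvd (Nat.mul_pos (by omega) hKpos) hdvd
    have h2 : (q - 1) * q ^ (n - 1) ≤ q ^ n - 1 := by
      have h3 : q ^ n = q * q ^ (n - 1) := by
        rw [← pow_succ']
        congr 1
        omega
      have h4 : 1 ≤ q ^ (n - 1) := Nat.one_le_pow _ _ (by omega)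
      rw [h3, Nat.sub_mul, one_mul]
      omega
    have h5 : (q - 1) * q ^ (n - 1) ≤ (q - 1) * K := le_trans h2 h1
    exact Nat.le_of_mul_le_mul_left h5 (by omega)
  rcases Nat.lt_or_ge m 4 with hm4 | hm4
  · interval_cases m
    · -- `m = 1`
      norm_num at hn
      subst hn
      norm_num at hK
      subst hK
      norm_num at hle
      have hq24 : q ≤ 24 := by omega
      clear hle
      interval_cases q <;> simp_all (config := {decide := true})
    · -- `m = 2`
      norm_num at hn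
      subst hn
      norm_num at hK
      subst hK
      norm_num at hle
      have hq9 : q ≤ 9 := by
        by_contra h
        push Not at h
        have : 10 ^ 3 ≤ q ^ 3 := Nat.pow_le_pow_left (by omega) 3
        omega
      clear hle
      interval_cases q <;> simp_all (config := {decide := true})
    · -- `m = 3`
      exfalso
      norm_num at hn
      subst hn
      norm_num at hp
  · exfalso
    have h1 := pow_lt_three_pow m hm4
    rw [← hn] at h1
    have h2 : 3 ^ (n - 1) ≤ q ^ (n - 1) := Nat.pow_le_pow_left hq3 _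
    have h3 : 2 * m ≤ n := hn ▸ two_mul_le_two_pow m hm
    have h4 : K < 2 ^ (5 * m) := by
      have e : 2 ^ (5 * m) = n * n * (n * n * n) := by
        rw [hn, ← pow_add, ← pow_add, ← pow_add]
        congr 1
        ring
      rw [e, hK]
      have h5 : (n * n - 1) * (2 * m) < n * n * n := by
        have : n * n - 1 < n * n := by omega
        calc (n * n - 1) * (2 * m) ≤ (n * n - 1) * n := Nat.mul_le_mul_left _ h3
          _ < n * n * n := Nat.mul_lt_mul_of_pos_right this (by omega)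
      exact Nat.mul_lt_mul_of_pos_left h5 (by omega)
    omega

end Cfsg.Agent.Lib.H4.Hup
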