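import Mathlib

/-!
# A counting lemma for central extensions acting linearly (helper4)

`ρ : G →* (V ≃ₗ[ZMod q] V)`.  For a subgroup `A` of `G` let `kk ρ A` be the subalgebra of `End V`
generated by `ρ A`.  `Star ρ A` says that every non-zero element of `kk ρ A` is injective (so that
`kk ρ A` is a finite field when `A` is abelian).

`card_pow_le` : if `A ≤ Z(N)`, `[N,N] ≤ A`, every element of `N` outside `A` has a commutator
acting non-trivially, and `Star ρ A`, then `|kk ρ A| ^ [N : A] ≤ |End V|`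
(linear independence over `kk ρ A` of a transversal of `A` in `N`).
-/

set_option autoImplicit false

namespace Cfsg.Agent.Lib.H4.Hup

open Function

variable {q : ℕ} [Fact q.Prime] {V : Type*} [AddCommGroup V] [Module (ZMod q) V]
variable {G : Type*} [Group G]

/-- the representation with values in `End V` -/
def toEnd (ρ : G →* (V ≃ₗ[ZMod q] V)) : G →* Module.End (ZMod q) V :=
  LinearEquiv.automorphismGroup.toLinearMapMonoidHom.comp ρ

theorem toEnd_apply (ρ : G →* (V ≃ₗ[ZMod q] V)) (g : G) (v : V) : toEnd ρ g v = ρ g v := rfl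

theorem toEnd_mul_inv (ρ : G →* (V ≃ₗ[ZMod q] V)) (g : G) : toEnd ρ g * toEnd ρ g⁻¹ = 1 := by
  rw [← map_mul, mul_inv_cancel, map_one]

theorem toEnd_inv_mul (ρ : G →* (V ≃ₗ[ZMod q] V)) (g : G) : toEnd ρ g⁻¹ * toEnd ρ g = 1 := by
  rw [← map_mul, inv_mul_cancel, map_one]

theorem toEnd_injective_apply (ρ : G →* (V ≃ₗ[ZMod q] V)) (g : G) : Injective (toEnd ρ g) := by
  intro v w h
  rw [toEnd_apply, toEnd_apply] at h
  exact (ρ g).injective h

theorem toEnd_eq_one_iff (ρ : G →* (V ≃ₗ[ZMod q] V)) (g : G) : toEnd ρ g = 1 ↔ ρ g = 1 := by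
  constructor
  · intro h
    ext v
    have := congrArg (fun f : Module.End (ZMod q) V => f v) h
    simpa [toEnd_apply] using this
  · intro h
    ext v
    rw [toEnd_apply, h]
    rfl

/-- the subalgebra generated by `ρ A` -/
def kk (ρ : G →* (V ≃ₗ[ZMod q] V)) (A : Subgroup G) :
    Subalgebra (ZMod q) (Module.End (ZMod q) V) :=
  Algebra.adjoin (ZMod q) (toEnd ρ '' (A : Set G))

theorem toEnd_mem_kk (ρ : G →* (V ≃ₗ[ZMod q] V)) {A : Subgroup G} {a : G} (ha : a ∈ A) :
    toEnd ρ a ∈ kk ρ A :=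
  Algebra.subset_adjoin ⟨a, ha, rfl⟩

theorem kk_mono (ρ : G →* (V ≃ₗ[ZMod q] V)) {A B : Subgroup G} (h : A ≤ B) : kk ρ A ≤ kk ρ B :=
  Algebra.adjoin_mono (Set.image_mono h)

/-- every non-zero element of `kk ρ A` is injective -/
def Star (ρ : G →* (V ≃ₗ[ZMod q] V)) (A : Subgroup G) : Prop :=
  ∀ c ∈ kk ρ A, c ≠ 0 → Injective c

theorem Star.mono {ρ : G →* (V ≃ₗ[ZMod q] V)} {A B : Subgroup G} (h : A ≤ B) (hB : Star ρ B) :
    Star ρ A := fun c hc hc0 => hB c (kk_mono ρ h hc) hc0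

/-- elements commuting with `ρ A` commute with `kk ρ A` -/
theorem commute_kk (ρ : G →* (V ≃ₗ[ZMod q] V)) {A : Subgroup G} {f : Module.End (ZMod q) V}
    (hf : ∀ a ∈ A, toEnd ρ a * f = f * toEnd ρ a) {c : Module.End (ZMod q) V} (hc : c ∈ kk ρ A) :
    c * f = f * c := by
  have : kk ρ A ≤ Subalgebra.centralizer (ZMod q) {f} := by
    apply Algebra.adjoin_le
    rintro _ ⟨a, ha, rfl⟩
    rw [SetLike.mem_coe, Subalgebra.mem_centralizer_iff]
    intro g hg
    rw [Set.mem_singleton_iff] at hg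
    rw [hg, hf a ha]
  have h1 := this hc
  rw [Subalgebra.mem_centralizer_iff] at h1
  exact (h1 f rfl).symm

theorem mul_ne_zero_of_star {ρ : G →* (V ≃ₗ[ZMod q] V)} {A : Subgroup G} (hstar : Star ρ A)
    {c d : Module.End (ZMod q) V} (hc : c ∈ kk ρ A) (hc0 : c ≠ 0) (hd0 : d ≠ 0) : c * d ≠ 0 := by
  intro h
  apply hd0
  ext v
  have := congrArg (fun f : Module.End (ZMod q) V => f v) h
  simp only [Module.End.mul_apply, LinearMap.zero_apply] at this
  have h2 : c (d v) = c 0 := by rw [this, map_zero]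
  rw [LinearMap.zero_apply]
  exact hstar c hc hc0 h2

section count

variable [Finite V] [Finite G] (ρ : G →* (V ≃ₗ[ZMod q] V)) (N A : Subgroup G)

theorem finite_end : Finite (Module.End (ZMod q) V) :=
  Finite.of_injective (fun f : Module.End (ZMod q) V => (f : V → V)) DFunLike.coe_injective

/-- the group identity behind the separation of cosets -/
theorem comm_quot_eq {a b h : G}
    (hc : (h * a * h⁻¹ * a⁻¹)⁻¹ * (h * b * h⁻¹ * b⁻¹) * a =
      a * ((h * a * h⁻¹ * a⁻¹)⁻¹ * (h * b * h⁻¹ * b⁻¹))) :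
    h * (a⁻¹ * b) * h⁻¹ * (a⁻¹ * b)⁻¹ = (h * a * h⁻¹ * a⁻¹)⁻¹ * (h * b * h⁻¹ * b⁻¹) := by
  have h1 : h * (a⁻¹ * b) * h⁻¹ * (a⁻¹ * b)⁻¹ =
      a⁻¹ * ((h * a * h⁻¹ * a⁻¹)⁻¹ * (h * b * h⁻¹ * b⁻¹) * a) := by group
  rw [h1, hc, ← mul_assoc, inv_mul_cancel, one_mul]

/-- the transversal of `A` in `N` -/
noncomputable def tr (N A : Subgroup G) (t : ↥N ⧸ A.subgroupOf N) : G :=
  ((Quotient.out t : ↥N) : G)

theorem tr_mem (t : ↥N ⧸ A.subgroupOf N) : tr N A t ∈ N := (Quotient.out t : ↥N).2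

theorem tr_diff (t t' : ↥N ⧸ A.subgroupOf N) (hne : t ≠ t') : (tr N A t')⁻¹ * tr N A t ∉ A := by
  intro hmem
  apply hne
  have h1 : (QuotientGroup.mk (Quotient.out t' : ↥N) : ↥N ⧸ A.subgroupOf N) =
      QuotientGroup.mk (Quotient.out t) := by
    rw [QuotientGroup.eq]
    exact Subgroup.mem_subgroupOf.mpr (by simpa [tr] using hmem)
  have h2 : (QuotientGroup.mk (Quotient.out t) : ↥N ⧸ A.subgroupOf N) = t := Quotient.out_eq' t
  have h3 : (QuotientGroup.mk (Quotient.out t') : ↥N ⧸ A.subgroupOf N) = t' := Quotient.out_eq' t'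
  rw [← h2, ← h3, h1]

theorem exists_tr_mul (g : G) (hg : g ∈ N) : ∃ t, (tr N A t)⁻¹ * g ∈ A := by
  refine ⟨QuotientGroup.mk (⟨g, hg⟩ : ↥N), ?_⟩
  have h2 : (QuotientGroup.mk (Quotient.out (QuotientGroup.mk (⟨g, hg⟩ : ↥N) :
      ↥N ⧸ A.subgroupOf N)) : ↥N ⧸ A.subgroupOf N) = QuotientGroup.mk (⟨g, hg⟩ : ↥N) :=
    Quotient.out_eq' _
  rw [QuotientGroup.eq] at h2
  have := Subgroup.mem_subgroupOf.mp h2
  simpa [tr] using this

/-- the linear combination map -/
noncomputable def comb (c : (↥N ⧸ A.subgroupOf N) → kk ρ A) : Module.End (ZMod q) V :=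
  haveI : Fintype (↥N ⧸ A.subgroupOf N) := Fintype.ofFinite _
  ∑ t, (c t : Module.End (ZMod q) V) * toEnd ρ (tr N A t)

/-- the commutator values -/
noncomputable def kap (h : G) (t : ↥N ⧸ A.subgroupOf N) : Module.End (ZMod q) V :=
  toEnd ρ (h * tr N A t * h⁻¹ * (tr N A t)⁻¹)

/-- the standing hypotheses -/
structure Hyp : Prop where
  le : A ≤ N
  cent : ∀ a ∈ A, ∀ g ∈ N, a * g = g * a
  comm : ∀ g ∈ N, ∀ h ∈ N, h * g * h⁻¹ * g⁻¹ ∈ A
  sep : ∀ g ∈ N, g ∉ A → ∃ h ∈ N, ρ (h * g * h⁻¹ * g⁻¹) ≠ 1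
  star : Star ρ A

variable {ρ N A}

theorem Hyp.kap_mem (H : Hyp ρ N A) {h : G} (hh : h ∈ N) (t : ↥N ⧸ A.subgroupOf N) :
    kap ρ N A h t ∈ kk ρ A :=
  toEnd_mem_kk ρ (H.comm _ (tr_mem N A t) h hh)

theorem Hyp.kk_comm_N (H : Hyp ρ N A) {h : G} (hh : h ∈ N) {c : Module.End (ZMod q) V}
    (hc : c ∈ kk ρ A) : c * toEnd ρ h = toEnd ρ h * c := by
  apply commute_kk ρ _ hc
  intro a ha
  rw [← map_mul, ← map_mul, H.cent a ha h hh]

theorem Hyp.kk_comm (H : Hyp ρ N A) {c d : Module.End (ZMod q) V} (hc : c ∈ kk ρ A)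
    (hd : d ∈ kk ρ A) : c * d = d * c := by
  apply commute_kk ρ _ hc
  intro a ha
  exact (H.kk_comm_N (H.le ha) hd).symm

theorem comb_sub (c d : (↥N ⧸ A.subgroupOf N) → kk ρ A) :
    comb ρ N A (c - d) = comb ρ N A c - comb ρ N A d := by
  classical
  unfold comb
  rw [← Finset.sum_sub_distrib]
  apply Finset.sum_congr rfl
  intro t _
  rw [Pi.sub_apply, Subalgebra.coe_sub, sub_mul]

theorem Hyp.conj_comb (H : Hyp ρ N A) {h : G} (hh : h ∈ N)
    (c : (↥N ⧸ A.subgroupOf N) → kk ρ A) :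
    toEnd ρ h * comb ρ N A c * toEnd ρ h⁻¹ =
      haveI : Fintype (↥N ⧸ A.subgroupOf N) := Fintype.ofFinite _
      ∑ t, (c t : Module.End (ZMod q) V) * kap ρ N A h t * toEnd ρ (tr N A t) := by
  classical
  unfold comb
  rw [Finset.mul_sum, Finset.sum_mul]
  apply Finset.sum_congr rfl
  intro t _
  have h1 : toEnd ρ h * ((c t : Module.End (ZMod q) V) * toEnd ρ (tr N A t)) * toEnd ρ h⁻¹ =
      (c t : Module.End (ZMod q) V) * (toEnd ρ h * toEnd ρ (tr N A t) * toEnd ρ h⁻¹) := by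
    rw [← mul_assoc, ← H.kk_comm_N hh (c t).2, mul_assoc, mul_assoc, mul_assoc]
  rw [h1, mul_assoc (c t : Module.End (ZMod q) V) (kap ρ N A h t)]
  congr 1
  show toEnd ρ h * toEnd ρ (tr N A t) * toEnd ρ h⁻¹ =
    toEnd ρ (h * tr N A t * h⁻¹ * (tr N A t)⁻¹) * toEnd ρ (tr N A t)
  rw [← map_mul, ← map_mul, ← map_mul]
  congr 1
  group

/-- twisting the coefficients -/
noncomputable def twist (H : Hyp ρ N A) {h : G} (hh : h ∈ N) (d : kk ρ A)
    (c : (↥N ⧸ A.subgroupOf N) → kk ρ A) : (↥N ⧸ A.subgroupOf N) → kk ρ A :=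
  fun t => ⟨(kap ρ N A h t - d) * (c t : Module.End (ZMod q) V),
    Subalgebra.mul_mem _ (Subalgebra.sub_mem _ (H.kap_mem hh t) d.2) (c t).2⟩

theorem Hyp.comb_twist (H : Hyp ρ N A) {h : G} (hh : h ∈ N) (d : kk ρ A)
    (c : (↥N ⧸ A.subgroupOf N) → kk ρ A) :
    comb ρ N A (twist H hh d c) =
      toEnd ρ h * comb ρ N A c * toEnd ρ h⁻¹ - (d : Module.End (ZMod q) V) * comb ρ N A c := by
  classical
  rw [H.conj_comb hh c]
  unfold comb
  rw [Finset.mul_sum, ← Finset.sum_sub_distrib]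
  apply Finset.sum_congr rfl
  intro t _
  show ((kap ρ N A h t - d) * (c t : Module.End (ZMod q) V)) * toEnd ρ (tr N A t) = _
  rw [sub_mul, sub_mul, H.kk_comm (H.kap_mem hh t) (c t).2, mul_assoc (d : Module.End (ZMod q) V)]

theorem Hyp.kap_ne (H : Hyp ρ N A) {t t1 : ↥N ⧸ A.subgroupOf N} (htt : t ≠ t1) :
    ∃ h ∈ N, kap ρ N A h t - kap ρ N A h t1 ≠ 0 := by
  have hg : (tr N A t1)⁻¹ * tr N A t ∉ A := tr_diff N A t t1 htt
  have hgN : (tr N A t1)⁻¹ * tr N A t ∈ N :=
    N.mul_mem (N.inv_mem (tr_mem N A t1)) (tr_mem N A t)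
  obtain ⟨h, hh, hρ⟩ := H.sep _ hgN hg
  refine ⟨h, hh, ?_⟩
  intro h0
  apply hρ
  have hka : h * tr N A t1 * h⁻¹ * (tr N A t1)⁻¹ ∈ A := H.comm _ (tr_mem N A t1) h hh
  have hkb : h * tr N A t * h⁻¹ * (tr N A t)⁻¹ ∈ A := H.comm _ (tr_mem N A t) h hh
  have hcen := H.cent _ (A.mul_mem (A.inv_mem hka) hkb) (tr N A t1) (tr_mem N A t1)
  rw [comm_quot_eq hcen, map_mul, map_inv]
  have h1 : toEnd ρ (h * tr N A t * h⁻¹ * (tr N A t)⁻¹) =
      toEnd ρ (h * tr N A t1 * h⁻¹ * (tr N A t1)⁻¹) := sub_eq_zero.mp h0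
  have h2 : ρ (h * tr N A t * h⁻¹ * (tr N A t)⁻¹) = ρ (h * tr N A t1 * h⁻¹ * (tr N A t1)⁻¹) := by
    ext v
    have := congrArg (fun f : Module.End (ZMod q) V => f v) h1
    simpa [toEnd_apply] using this
  rw [h2, inv_mul_cancel]

theorem Hyp.comb_injective (H : Hyp ρ N A) : Injective (comb ρ N A) := by
  classical
  letI : Fintype (↥N ⧸ A.subgroupOf N) := Fintype.ofFinite _
  have key : ∀ n : ℕ, ∀ c : (↥N ⧸ A.subgroupOf N) → kk ρ A,
      (Finset.univ.filter (fun t => c t ≠ 0)).card ≤ n → comb ρ N A c = 0 → c = 0 := by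
    intro n
    induction n with
    | zero =>
      intro c hc _
      funext t
      show c t = 0
      by_contra ht
      have : t ∈ Finset.univ.filter (fun t => c t ≠ 0) := by simp [ht]
      have h0 : (Finset.univ.filter (fun t => c t ≠ 0)).card = 0 := by omega
      rw [Finset.card_eq_zero] at h0
      rw [h0] at this
      exact absurd this (Finset.notMem_empty t)
    | succ n ih =>
      intro c hc hΦ
      by_contra hne
      obtain ⟨t1, ht1⟩ : ∃ t1, c t1 ≠ 0 := by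
        by_contra hall
        push Not at hall
        exact hne (funext hall)
      have hder : ∀ h (hh : h ∈ N), ∀ t,
          (kap ρ N A h t - kap ρ N A h t1) * (c t : Module.End (ZMod q) V) = 0 := by
        intro h hh
        set c' := twist H hh ⟨kap ρ N A h t1, H.kap_mem hh t1⟩ c with hc'
        have hc'Φ : comb ρ N A c' = 0 := by
          rw [hc', H.comb_twist hh, hΦ, mul_zero, zero_mul, mul_zero, sub_zero]
        have hsupp : (Finset.univ.filter (fun t => c' t ≠ 0)) ⊆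
            (Finset.univ.filter (fun t => c t ≠ 0)).erase t1 := by
          intro t ht
          rw [Finset.mem_filter] at ht
          rw [Finset.mem_erase, Finset.mem_filter]
          refine ⟨?_, Finset.mem_univ _, ?_⟩
          · rintro rfl
            apply ht.2
            apply Subtype.ext
            show (kap ρ N A h t - kap ρ N A h t) * (c t : Module.End (ZMod q) V) = 0
            rw [sub_self, zero_mul]
          · intro hct
            apply ht.2
            apply Subtype.ext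
            show (kap ρ N A h t - kap ρ N A h t1) * (c t : Module.End (ZMod q) V) = 0
            rw [hct, ZeroMemClass.coe_zero, mul_zero]
        have hcard : (Finset.univ.filter (fun t => c' t ≠ 0)).card ≤ n := by
          have h1 := Finset.card_le_card hsupp
          have h2 : t1 ∈ Finset.univ.filter (fun t => c t ≠ 0) := by simp [ht1]
          rw [Finset.card_erase_of_mem h2] at h1
          omega
        have hc'0 := ih c' hcard hc'Φ
        intro t
        have := congrFun hc'0 t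
        exact congrArg Subtype.val this
      have hother : ∀ t, t ≠ t1 → c t = 0 := by
        intro t htt
        by_contra hct
        obtain ⟨h, hh, hkne⟩ := H.kap_ne htt
        have hct' : (c t : Module.End (ZMod q) V) ≠ 0 := fun h0 => hct (Subtype.ext h0)
        exact mul_ne_zero_of_star H.star
          (Subalgebra.sub_mem _ (H.kap_mem hh t) (H.kap_mem hh t1)) hkne hct' (hder h hh t)
      have hsingle : comb ρ N A c = (c t1 : Module.End (ZMod q) V) * toEnd ρ (tr N A t1) := by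
        unfold comb
        rw [Finset.sum_eq_single t1]
        · intro t _ htt
          rw [hother t htt, ZeroMemClass.coe_zero, zero_mul]
        · intro h
          exact absurd (Finset.mem_univ t1) h
      apply ht1
      apply Subtype.ext
      have h1 : (c t1 : Module.End (ZMod q) V) =
          (c t1 : Module.End (ZMod q) V) * toEnd ρ (tr N A t1) * toEnd ρ (tr N A t1)⁻¹ := by
        rw [mul_assoc, toEnd_mul_inv, mul_one]
      rw [h1, ← hsingle, hΦ, zero_mul]
      rfl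
  intro c d hcd
  have h1 : comb ρ N A (c - d) = 0 := by rw [comb_sub, hcd, sub_self]
  have h2 := key _ (c - d) le_rfl h1
  exact sub_eq_zero.mp h2

theorem Hyp.card_pow_le (H : Hyp ρ N A) :
    Nat.card (kk ρ A) ^ A.relIndex N ≤ Nat.card (Module.End (ZMod q) V) := by
  have : Finite (Module.End (ZMod q) V) := finite_end
  have h1 := Nat.card_le_card_of_injective _ H.comb_injective
  rw [Nat.card_fun] at h1
  exact h1

end count

end Cfsg.Agent.Lib.H4.Hup
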