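import Mathlib
import Cfsg.Agent.Lib.H4.Hup.Count

/-!
# A fixed-point-free element cannot act freely on a normalized subgroup (helper4)

`x ^ p = 1`, `ρ x` irreducible without non-zero fixed vectors, `S` a non-trivial subgroup of order
prime to `q` normalized by `x` with `C_S(x) = 1`: impossible (the Frobenius group `S ⟨x⟩` would have
the regular representation of `⟨x⟩` in `V`).
-/

set_option autoImplicit false

namespace Cfsg.Agent.Lib.H4.Hup

open Function

variable {q : ℕ} [Fact q.Prime] {V : Type*} [AddCommGroup V] [Module (ZMod q) V] [Finite V]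
variable {G : Type*} [Group G] [Finite G]

theorem conj_pow_mem {S : Subgroup G} {x : G} (hxS : ∀ s ∈ S, x * s * x⁻¹ ∈ S) (j : ℕ) :
    ∀ s ∈ S, x ^ j * s * (x ^ j)⁻¹ ∈ S := by
  induction j with
  | zero => intro s hs; simpa using hs
  | succ j ih =>
    intro s hs
    have h1 := hxS _ (ih s hs)
    have e : x * (x ^ j * s * (x ^ j)⁻¹) * x⁻¹ = x ^ (j + 1) * s * (x ^ (j + 1))⁻¹ := by
      rw [pow_succ']
      group
    rwa [e] at h1

theorem inv_conj_mem {S : Subgroup G} {x : G} (hxS : ∀ s ∈ S, x * s * x⁻¹ ∈ S) :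
    ∀ s ∈ S, x⁻¹ * s * x ∈ S := by
  intro s hs
  have hx : x ^ Nat.card G = 1 := pow_card_eq_one'
  have hpos : 0 < Nat.card G := Nat.card_pos
  have h1 := conj_pow_mem hxS (Nat.card G - 1) s hs
  have e : x ^ (Nat.card G - 1) = x⁻¹ := by
    have : x ^ (Nat.card G - 1) * x = 1 := by
      rw [← pow_succ, Nat.sub_add_cancel hpos, hx]
    exact eq_inv_of_mul_eq_one_left this
  rwa [e, inv_inv] at h1

theorem false_of_fpf_sub [Nontrivial V] (ρ : G →* (V ≃ₗ[ZMod q] V)) (hinj : Injective ρ)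
    (x : G) {p : ℕ} (hp : p.Prime) (hxp : x ^ p = 1)
    (hfpf : ∀ v, ρ x v = v → v = 0)
    (hirr : ∀ W : Submodule (ZMod q) V, (∀ w ∈ W, ρ x w ∈ W) → W = ⊥ ∨ W = ⊤)
    (S : Subgroup G) (hSne : S ≠ ⊥)
    (hxS : ∀ s ∈ S, x * s * x⁻¹ ∈ S) (hCS : ∀ s ∈ S, x * s = s * x → s = 1)
    (hq : ¬ q ∣ Nat.card S) : False := by
  classical
  letI : Fintype S := Fintype.ofFinite _
  set X := toEnd ρ x with hX
  -- the trace of `x` vanishes
  let T : Module.End (ZMod q) V := ∑ j ∈ Finset.range p, X ^ j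
  have hXp : X ^ p = 1 := by rw [hX, ← map_pow, hxp, map_one]
  have hXT : X * T = T := by
    show X * ∑ j ∈ Finset.range p, X ^ j = ∑ j ∈ Finset.range p, X ^ j
    rw [Finset.mul_sum]
    have h1 : ∀ j, X * X ^ j = X ^ (j + 1) := fun j => (pow_succ' X j).symm
    simp only [h1]
    have h2 := Finset.sum_range_succ' (fun j => X ^ j) p
    have h3 := Finset.sum_range_succ (fun j => X ^ j) p
    rw [h3, hXp, pow_zero] at h2
    exact (add_right_cancel h2).symm
  have hT0 : T = 0 := by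
    ext v
    have h1 : X (T v) = T v := by
      have := congrArg (fun f : Module.End (ZMod q) V => f v) hXT
      simpa using this
    rw [LinearMap.zero_apply]
    exact hfpf _ h1
  -- the trace of `S` vanishes
  let σ : Module.End (ZMod q) V := ∑ s : S, toEnd ρ (s : G)
  have hσfix : ∀ t : S, toEnd ρ (t : G) * σ = σ := by
    intro t
    show toEnd ρ (t : G) * ∑ s : S, toEnd ρ (s : G) = ∑ s : S, toEnd ρ (s : G)
    rw [Finset.mul_sum]
    have h1 : ∀ s : S, toEnd ρ (t : G) * toEnd ρ (s : G) = toEnd ρ ((t * s : S) : G) := by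
      intro s
      rw [← map_mul]
      rfl
    simp only [h1]
    exact Fintype.sum_bijective (fun s : S => t * s) (Group.mulLeft_bijective t) _ _ (fun s => rfl)
  let C : Submodule (ZMod q) V :=
    { carrier := {v | ∀ s ∈ S, ρ s v = v}
      add_mem' := by
        intro a b ha hb s hs
        rw [map_add, ha s hs, hb s hs]
      zero_mem' := fun s _ => map_zero _
      smul_mem' := by
        intro c v hv s hs
        rw [map_smul, hv s hs] }
  have hCmem : ∀ v, v ∈ C ↔ ∀ s ∈ S, ρ s v = v := fun v => Iff.rfl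
  have hxS' := inv_conj_mem hxS
  have hCinv : ∀ w ∈ C, ρ x w ∈ C := by
    intro w hw
    rw [hCmem] at hw ⊢
    intro s hs
    have h1 := hw _ (hxS' s hs)
    have e : s * x = x * (x⁻¹ * s * x) := by group
    calc ρ s (ρ x w) = ρ (s * x) w := by rw [map_mul]; rfl
      _ = ρ (x * (x⁻¹ * s * x)) w := by rw [e]
      _ = ρ x (ρ (x⁻¹ * s * x) w) := by rw [map_mul]; rfl
      _ = ρ x w := by rw [h1]
  have hC0 : C = ⊥ := by
    rcases hirr C hCinv with h | h
    · exact h
    · exfalso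
      apply hSne
      rw [eq_bot_iff]
      intro s hs
      rw [Subgroup.mem_bot]
      apply hinj
      rw [map_one]
      ext v
      have hv : v ∈ C := by rw [h]; trivial
      exact hv s hs
  have hσ0 : σ = 0 := by
    ext v
    have h1 : σ v ∈ C := by
      rw [hCmem]
      intro s hs
      have := congrArg (fun f : Module.End (ZMod q) V => f v) (hσfix ⟨s, hs⟩)
      simpa [toEnd_apply] using this
    rw [hC0, Submodule.mem_bot] at h1
    rw [h1, LinearMap.zero_apply]
  -- the conjugates of `x ^ j`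
  have hsumj : ∀ j, 0 < j → j < p →
      ∑ t : S, toEnd ρ ((t : G) * x ^ j * (t : G)⁻¹) = 0 := by
    intro j hj0 hjp
    -- `x` is a power of `x ^ j`
    have hcop : Nat.Coprime j p := by
      rw [Nat.coprime_comm]
      exact (Nat.Prime.coprime_iff_not_dvd hp).mpr (Nat.not_dvd_of_pos_of_lt hj0 hjp)
    obtain ⟨m, -, hm⟩ := Nat.exists_mul_mod_eq_one_of_coprime hcop hp.one_lt
    have hxm : (x ^ j) ^ m = x := by
      rw [← pow_mul, pow_eq_pow_mod (j * m) hxp, hm, pow_one]
    have hmemj : ∀ t : S, (t : G) * x ^ j * (t : G)⁻¹ * (x ^ j)⁻¹ ∈ S := by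
      intro t
      have h1 := conj_pow_mem hxS j _ (S.inv_mem t.2)
      have e : (t : G) * x ^ j * (t : G)⁻¹ * (x ^ j)⁻¹ = (t : G) * (x ^ j * (t : G)⁻¹ * (x ^ j)⁻¹) := by
        group
      rw [e]
      exact S.mul_mem t.2 h1
    let ψ : S → S := fun t => ⟨_, hmemj t⟩
    have hψinj : Injective ψ := by
      intro t t' h
      have h1 : (t : G) * x ^ j * (t : G)⁻¹ * (x ^ j)⁻¹ = (t' : G) * x ^ j * (t' : G)⁻¹ * (x ^ j)⁻¹ :=
        congrArg Subtype.val h
      have h2 : (t : G) * x ^ j * (t : G)⁻¹ = (t' : G) * x ^ j * (t' : G)⁻¹ :=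
        mul_right_cancel h1
      have h3 : Commute ((t' : G)⁻¹ * (t : G)) (x ^ j) := by
        show (t' : G)⁻¹ * (t : G) * x ^ j = x ^ j * ((t' : G)⁻¹ * (t : G))
        calc (t' : G)⁻¹ * (t : G) * x ^ j = (t' : G)⁻¹ * ((t : G) * x ^ j * (t : G)⁻¹) * (t : G) := by
              group
          _ = (t' : G)⁻¹ * ((t' : G) * x ^ j * (t' : G)⁻¹) * (t : G) := by rw [h2]
          _ = x ^ j * ((t' : G)⁻¹ * (t : G)) := by group
      have h4 : Commute ((t' : G)⁻¹ * (t : G)) x := by
        have := h3.pow_right m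
        rwa [hxm] at this
      have h5 := hCS _ (S.mul_mem (S.inv_mem t'.2) t.2) h4.eq.symm
      apply Subtype.ext
      have : (t : G) = (t' : G) * ((t' : G)⁻¹ * (t : G)) := by group
      rw [this, h5, mul_one]
    have hψbij : Bijective ψ := Finite.injective_iff_bijective.mp hψinj
    have h1 : ∀ t : S, toEnd ρ ((t : G) * x ^ j * (t : G)⁻¹) = toEnd ρ ((ψ t : S) : G) * X ^ j := by
      intro t
      rw [hX, ← map_pow, ← map_mul]
      congr 1
      show (t : G) * x ^ j * (t : G)⁻¹ = (t : G) * x ^ j * (t : G)⁻¹ * (x ^ j)⁻¹ * x ^ j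
      group
    simp only [h1]
    rw [← Finset.sum_mul]
    have h2 : ∑ t : S, toEnd ρ ((ψ t : S) : G) = σ :=
      Fintype.sum_bijective ψ hψbij _ _ (fun s => rfl)
    rw [h2, hσ0, zero_mul]
  -- the total sum
  have htot : ∑ t : S, toEnd ρ (t : G) * T * toEnd ρ (t : G)⁻¹ =
      ∑ j ∈ Finset.range p, ∑ t : S, toEnd ρ ((t : G) * x ^ j * (t : G)⁻¹) := by
    rw [Finset.sum_comm]
    apply Finset.sum_congr rfl
    intro t _
    show toEnd ρ (t : G) * (∑ j ∈ Finset.range p, X ^ j) * toEnd ρ (t : G)⁻¹ = _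
    rw [Finset.mul_sum, Finset.sum_mul]
    apply Finset.sum_congr rfl
    intro j _
    rw [hX, ← map_pow, ← map_mul, ← map_mul]
  have hsplit : ∑ j ∈ Finset.range p, ∑ t : S, toEnd ρ ((t : G) * x ^ j * (t : G)⁻¹) =
      (Nat.card S : ZMod q) • (1 : Module.End (ZMod q) V) := by
    rw [Finset.sum_eq_single 0]
    · have h1 : ∀ t : S, toEnd ρ ((t : G) * x ^ 0 * (t : G)⁻¹) = 1 := by
        intro t
        rw [pow_zero, mul_one, mul_inv_cancel, map_one]
      simp only [h1]
      rw [Finset.sum_const, Finset.card_univ, Nat.card_eq_fintype_card, Nat.cast_smul_eq_nsmul]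
    · intro j hj hj0
      exact hsumj j (Nat.pos_of_ne_zero hj0) (Finset.mem_range.mp hj)
    · intro h
      exact absurd (Finset.mem_range.mpr hp.pos) h
  have hzero : (Nat.card S : ZMod q) • (1 : Module.End (ZMod q) V) = 0 := by
    rw [← hsplit, ← htot, hT0]
    simp
  have hne : (Nat.card S : ZMod q) ≠ 0 := by
    intro h
    exact hq ((ZMod.natCast_eq_zero_iff _ _).mp h)
  rcases smul_eq_zero.mp hzero with h | h
  · exact hne h
  · obtain ⟨v, hv⟩ := exists_ne (0 : V)
    apply hv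
    have := congrArg (fun f : Module.End (ZMod q) V => f v) h
    simpa using this

end Cfsg.Agent.Lib.H4.Hup
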