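import Mathlib
import Cfsg.Agent.Lib.H4.Hup.Count

/-!
# Consequences of a transversal spanning `End V` (helper4)

In the situation of `Hyp ρ N A`, if the combination map is surjective (e.g. for cardinality reasons)
then the centralizer of `ρ N` in `End V` is `kk ρ A`, and an element `g` of `G` whose commutators
with `N` lie in `A` (with `ρ A` central in `End V`) is congruent modulo the centralizer of `ρ N`
to an element of `N`.
-/

set_option autoImplicit false

namespace Cfsg.Agent.Lib.H4.Hup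

open Function

variable {q : ℕ} [Fact q.Prime] {V : Type*} [AddCommGroup V] [Module (ZMod q) V] [Finite V]
variable {G : Type*} [Group G] [Finite G] {ρ : G →* (V ≃ₗ[ZMod q] V)} {N A : Subgroup G}

theorem comb_zero : comb ρ N A 0 = 0 := by
  classical
  unfold comb
  apply Finset.sum_eq_zero
  intro t _
  rw [Pi.zero_apply, ZeroMemClass.coe_zero, zero_mul]

theorem Hyp.comb_surjective (H : Hyp ρ N A)
    (hcard : Nat.card (Module.End (ZMod q) V) ≤ Nat.card (kk ρ A) ^ A.relIndex N) :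
    Surjective (comb ρ N A) := by
  have : Finite (Module.End (ZMod q) V) := finite_end
  have h1 : Nat.card (Module.End (ZMod q) V) ≤ Nat.card ((↥N ⧸ A.subgroupOf N) → kk ρ A) := by
    rw [Nat.card_fun]
    exact hcard
  exact (H.comb_injective.bijective_of_nat_card_le h1).2

/-- the coefficients of an element commuting with `ρ N` up to a factor in `kk` -/
theorem Hyp.coeff_eq (H : Hyp ρ N A) (c : (↥N ⧸ A.subgroupOf N) → kk ρ A) {h : G} (hh : h ∈ N)
    (d : kk ρ A)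
    (hX : toEnd ρ h * comb ρ N A c * toEnd ρ h⁻¹ = (d : Module.End (ZMod q) V) * comb ρ N A c)
    (t : ↥N ⧸ A.subgroupOf N) :
    (kap ρ N A h t - d) * (c t : Module.End (ZMod q) V) = 0 := by
  have h1 : comb ρ N A (twist H hh d c) = 0 := by
    rw [H.comb_twist hh, hX, sub_self]
  have h2 : twist H hh d c = 0 := H.comb_injective (by rw [h1, comb_zero])
  have := congrFun h2 t
  exact congrArg Subtype.val this

theorem Hyp.mem_kk_of_commute (H : Hyp ρ N A) (hsurj : Surjective (comb ρ N A))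
    {X : Module.End (ZMod q) V} (hX : ∀ h ∈ N, toEnd ρ h * X = X * toEnd ρ h) : X ∈ kk ρ A := by
  classical
  obtain ⟨c, rfl⟩ := hsurj X
  have hc : ∀ t, tr N A t ∉ A → c t = 0 := by
    intro t ht
    by_contra hct
    obtain ⟨h, hh, hρ⟩ := H.sep _ (tr_mem N A t) ht
    have h1 : toEnd ρ h * comb ρ N A c * toEnd ρ h⁻¹ =
        ((1 : kk ρ A) : Module.End (ZMod q) V) * comb ρ N A c := by
      rw [hX h hh, mul_assoc, toEnd_mul_inv, mul_one, OneMemClass.coe_one, one_mul]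
    have h2 := H.coeff_eq c hh 1 h1 t
    have hct' : (c t : Module.End (ZMod q) V) ≠ 0 := fun h0 => hct (Subtype.ext h0)
    have hk : kap ρ N A h t - ((1 : kk ρ A) : Module.End (ZMod q) V) ≠ 0 := by
      intro h0
      apply hρ
      rw [OneMemClass.coe_one, sub_eq_zero] at h0
      exact (toEnd_eq_one_iff ρ _).mp h0
    exact mul_ne_zero_of_star H.star
      (Subalgebra.sub_mem _ (H.kap_mem hh t) (1 : kk ρ A).2) hk hct' h2
  unfold comb
  apply Subalgebra.sum_mem
  intro t _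
  by_cases ht : tr N A t ∈ A
  · exact Subalgebra.mul_mem _ (c t).2 (toEnd_mem_kk ρ ht)
  · rw [hc t ht, ZeroMemClass.coe_zero, zero_mul]
    exact Subalgebra.zero_mem _

theorem Hyp.exists_mul_inv_commute (H : Hyp ρ N A) (hsurj : Surjective (comb ρ N A))
    (hAc : ∀ a ∈ A, ∀ f : Module.End (ZMod q) V, toEnd ρ a * f = f * toEnd ρ a) {g : G}
    (hg : ∀ a ∈ N, a * g * a⁻¹ * g⁻¹ ∈ A) :
    ∃ b ∈ N, ∀ a ∈ N, toEnd ρ a * toEnd ρ (g * b⁻¹) = toEnd ρ (g * b⁻¹) * toEnd ρ a := by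
  classical
  obtain ⟨c, hc⟩ := hsurj (toEnd ρ g)
  by_cases hc0 : c = 0
  · -- degenerate: `End V` is trivial
    have h0 : toEnd ρ g = 0 := by rw [← hc, hc0, comb_zero]
    have h1 : (1 : Module.End (ZMod q) V) = 0 := by
      rw [← toEnd_inv_mul ρ g, h0, mul_zero]
    refine ⟨1, N.one_mem, fun a _ => ?_⟩
    have hall : ∀ f : Module.End (ZMod q) V, f = 0 := fun f => by rw [← mul_one f, h1, mul_zero]
    rw [hall (toEnd ρ a * _), hall (_ * toEnd ρ a)]
  · obtain ⟨t0, ht0⟩ : ∃ t0, c t0 ≠ 0 := by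
      by_contra hall
      push Not at hall
      exact hc0 (funext hall)
    have ht0' : (c t0 : Module.End (ZMod q) V) ≠ 0 := fun h0 => ht0 (Subtype.ext h0)
    refine ⟨tr N A t0, tr_mem N A t0, ?_⟩
    intro a ha
    set b := tr N A t0 with hb
    have hθ : toEnd ρ (a * g * a⁻¹ * g⁻¹) ∈ kk ρ A := toEnd_mem_kk ρ (hg a ha)
    have h1 : toEnd ρ a * comb ρ N A c * toEnd ρ a⁻¹ =
        ((⟨_, hθ⟩ : kk ρ A) : Module.End (ZMod q) V) * comb ρ N A c := by
      rw [hc]
      show toEnd ρ a * toEnd ρ g * toEnd ρ a⁻¹ = toEnd ρ (a * g * a⁻¹ * g⁻¹) * toEnd ρ g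
      rw [← map_mul, ← map_mul, ← map_mul]
      congr 1
      group
    have h2 := H.coeff_eq c ha ⟨_, hθ⟩ h1 t0
    have hk : kap ρ N A a t0 - toEnd ρ (a * g * a⁻¹ * g⁻¹) = 0 := by
      by_contra hne
      exact mul_ne_zero_of_star H.star
        (Subalgebra.sub_mem _ (H.kap_mem ha t0) hθ) hne ht0' h2
    have hk' : toEnd ρ (a * b * a⁻¹ * b⁻¹) = toEnd ρ (a * g * a⁻¹ * g⁻¹) := sub_eq_zero.mp hk
    -- conjugation fixes `g b⁻¹`
    have h3 : toEnd ρ a * toEnd ρ (g * b⁻¹) * toEnd ρ a⁻¹ = toEnd ρ (g * b⁻¹) := by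
      have e1 : a * (g * b⁻¹) * a⁻¹ = (a * g * a⁻¹ * g⁻¹) * (g * b⁻¹) * (a * b * a⁻¹ * b⁻¹)⁻¹ := by
        group
      rw [← map_mul, ← map_mul, e1, map_mul, map_mul, hAc _ (hg a ha), mul_assoc, ← hk',
        ← map_mul, mul_inv_cancel, map_one, mul_one]
    calc toEnd ρ a * toEnd ρ (g * b⁻¹)
        = toEnd ρ a * toEnd ρ (g * b⁻¹) * toEnd ρ a⁻¹ * toEnd ρ a := by
          rw [mul_assoc _ (toEnd ρ a⁻¹), toEnd_inv_mul, mul_one]
      _ = toEnd ρ (g * b⁻¹) * toEnd ρ a := by rw [h3]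

end Cfsg.Agent.Lib.H4.Hup
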