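import Mathlib

/-!
# Elements of primitive prime order act irreducibly (helper4)

`V` a finite vector space over `ZMod q` with `q ^ n` elements, `p` a prime different from `q`
dividing no `q ^ k - 1` with `0 < k < n`.  A linear automorphism `x ≠ 1` with `x ^ p = 1` has no
non-zero fixed vector and no proper non-zero invariant subspace.
-/

set_option autoImplicit false

namespace Cfsg.Agent.Lib.H4.Hup

open Function

variable {q : ℕ} [hq : Fact q.Prime] {V : Type*} [AddCommGroup V] [Module (ZMod q) V] [Finite V]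

/-- the fixed vectors inside a subspace -/
def fixIn (x : V ≃ₗ[ZMod q] V) (W : Submodule (ZMod q) V) : Submodule (ZMod q) V :=
  W ⊓ LinearMap.ker ((x : V →ₗ[ZMod q] V) - LinearMap.id)

theorem mem_fixIn {x : V ≃ₗ[ZMod q] V} {W : Submodule (ZMod q) V} {v : V} :
    v ∈ fixIn x W ↔ v ∈ W ∧ x v = v := by
  unfold fixIn
  rw [Submodule.mem_inf, LinearMap.mem_ker, LinearMap.sub_apply, LinearMap.id_apply, sub_eq_zero]
  rfl

theorem card_modEq_fixIn (x : V ≃ₗ[ZMod q] V) (p : ℕ) [Fact p.Prime] (hx : x ^ p = 1)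
    (W : Submodule (ZMod q) V) (hW : ∀ w ∈ W, x w ∈ W) :
    Nat.card W ≡ Nat.card (fixIn x W) [MOD p] := by
  classical
  haveI : Fintype W := Fintype.ofFinite _
  let f : Function.End W := fun w => ⟨x w.1, hW w.1 w.2⟩
  have hfk : ∀ (k : ℕ) (w : W), (((f ^ k) w : W) : V) = (x ^ k) w.1 := by
    intro k
    induction k with
    | zero => intro w; rfl
    | succ k ih =>
      intro w
      have h1 : (f ^ (k + 1)) w = (f ^ k) (f w) := by rw [pow_succ]; rfl
      rw [h1, ih, pow_succ]
      rfl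
  have hf : f ^ p ^ 1 = 1 := by
    funext w
    apply Subtype.ext
    rw [pow_one, hfk, hx]
    rfl
  have h1 := Equiv.Perm.card_fixedPoints_modEq (p := p) (n := 1) hf
  have e : ↥(Function.fixedPoints f) ≃ ↥(fixIn x W) :=
    { toFun := fun w => ⟨w.1.1, mem_fixIn.mpr ⟨w.1.2, congrArg Subtype.val w.2⟩⟩
      invFun := fun v => ⟨⟨v.1, (mem_fixIn.mp v.2).1⟩, Subtype.ext (mem_fixIn.mp v.2).2⟩
      left_inv := fun w => rfl
      right_inv := fun v => rfl }
  rw [Nat.card_eq_fintype_card, ← Nat.card_congr e, Nat.card_eq_fintype_card]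
  exact h1

theorem card_submodule (W : Submodule (ZMod q) V) :
    Nat.card W = q ^ Module.finrank (ZMod q) W := by
  rw [Module.natCard_eq_pow_finrank (K := ZMod q), Nat.card_zmod]

theorem ppd_arith {p n : ℕ} (hp : p.Prime) (hpq : p ≠ q)
    (hppd : ∀ k, 0 < k → k < n → ¬ p ∣ q ^ k - 1) {d c : ℕ} (hc : c ≤ d) (hd : d ≤ n)
    (h : q ^ d ≡ q ^ c [MOD p]) : c = d ∨ (d = n ∧ c = 0) := by
  by_cases hcd : c = d
  · exact Or.inl hcd
  · right
    have hlt : c < d := lt_of_le_of_ne hc hcd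
    have h1 : p ∣ q ^ d - q ^ c :=
      (Nat.modEq_iff_dvd' (Nat.pow_le_pow_right hq.out.pos hc)).mp h.symm
    have h2 : q ^ d - q ^ c = q ^ c * (q ^ (d - c) - 1) := by
      rw [Nat.mul_sub, mul_one, ← pow_add]
      congr 2
      omega
    rw [h2] at h1
    have h3 : ¬ p ∣ q ^ c := by
      intro h4
      have h5 := hp.dvd_of_dvd_pow h4
      exact hpq ((Nat.prime_dvd_prime_iff_eq hp hq.out).mp h5)
    have h4 : p ∣ q ^ (d - c) - 1 := (hp.dvd_mul.mp h1).resolve_left h3
    have h5 : ¬ (d - c < n) := fun h6 => hppd (d - c) (by omega) h6 h4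
    omega

theorem ppd_irreducible {p n : ℕ} [hp : Fact p.Prime] (hpq : p ≠ q) (hcard : Nat.card V = q ^ n)
    (hppd : ∀ k, 0 < k → k < n → ¬ p ∣ q ^ k - 1) (x : V ≃ₗ[ZMod q] V) (hx : x ^ p = 1)
    (hx1 : x ≠ 1) :
    (∀ v, x v = v → v = 0) ∧
      ∀ W : Submodule (ZMod q) V, (∀ w ∈ W, x w ∈ W) → W = ⊥ ∨ W = ⊤ := by
  have hn : Module.finrank (ZMod q) V = n := by
    have h1 : Nat.card V = q ^ Module.finrank (ZMod q) V := by
      rw [Module.natCard_eq_pow_finrank (K := ZMod q), Nat.card_zmod]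
    rw [hcard] at h1
    exact (Nat.pow_right_injective hq.out.two_le h1).symm
  have hle : ∀ W : Submodule (ZMod q) V, Module.finrank (ZMod q) W ≤ n := fun W => by
    rw [← hn]; exact Submodule.finrank_le W
  have hfixle : ∀ W : Submodule (ZMod q) V,
      Module.finrank (ZMod q) (fixIn x W) ≤ Module.finrank (ZMod q) W := fun W =>
    Submodule.finrank_mono inf_le_left
  have hcases : ∀ W : Submodule (ZMod q) V, (∀ w ∈ W, x w ∈ W) →
      Module.finrank (ZMod q) (fixIn x W) = Module.finrank (ZMod q) W ∨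
        (Module.finrank (ZMod q) W = n ∧ Module.finrank (ZMod q) (fixIn x W) = 0) := by
    intro W hW
    have h1 := card_modEq_fixIn x p hx W hW
    rw [card_submodule, card_submodule] at h1
    exact ppd_arith hp.out hpq hppd (hfixle W) (hle W) h1
  -- no fixed vectors
  have hfix : fixIn x ⊤ = ⊥ := by
    rcases hcases ⊤ (fun w _ => Submodule.mem_top) with h | ⟨_, h⟩
    · exfalso
      apply hx1
      have h2 : fixIn x ⊤ = ⊤ := by
        apply Submodule.eq_top_of_finrank_eq
        rw [h, finrank_top]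
      ext v
      have h3 : v ∈ fixIn x ⊤ := by rw [h2]; trivial
      exact (mem_fixIn.mp h3).2
    · exact Submodule.finrank_eq_zero.mp h
  have hfpf : ∀ v, x v = v → v = 0 := by
    intro v hv
    have h1 : v ∈ fixIn x ⊤ := mem_fixIn.mpr ⟨Submodule.mem_top, hv⟩
    rw [hfix] at h1
    exact (Submodule.mem_bot _).mp h1
  refine ⟨hfpf, ?_⟩
  intro W hW
  have hfW : fixIn x W = ⊥ := by
    rw [eq_bot_iff]
    intro v hv
    rw [Submodule.mem_bot]
    exact hfpf v (mem_fixIn.mp hv).2
  have h0 : Module.finrank (ZMod q) (fixIn x W) = 0 := by rw [hfW]; exact finrank_bot _ _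
  rcases hcases W hW with h | ⟨h, _⟩
  · left
    rw [h0] at h
    exact Submodule.finrank_eq_zero.mp h.symm
  · right
    apply Submodule.eq_top_of_finrank_eq
    rw [h, hn]

end Cfsg.Agent.Lib.H4.Hup
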