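import Mathlib
import Cfsg.Agent.Lib.H4.Hup.Count
import Cfsg.Agent.Lib.H4.Hup.Ppd

/-!
# The context of a primitive prime order element (helper4)

`Ctx ρ n p x` : `ρ` faithful on `V` with `q ^ n` elements, `n ≥ 2`, `p` a primitive prime divisor
of `q ^ n - 1`, `x` of order `p`.  Then `ρ x` is irreducible and fixed-point-free, subgroups
centralizing `x` satisfy `Star`, and abelian subgroups with `Star` are cyclic.
-/

set_option autoImplicit false

namespace Cfsg.Agent.Lib.H4.Hup

open Function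

variable {q : ℕ} [hq : Fact q.Prime] {V : Type*} [AddCommGroup V] [Module (ZMod q) V] [Finite V]
variable {G : Type*} [Group G] [Finite G]

theorem card_end {n : ℕ} (hcard : Nat.card V = q ^ n) :
    Nat.card (Module.End (ZMod q) V) = q ^ (n * n) := by
  have hn : Module.finrank (ZMod q) V = n := by
    have h1 : Nat.card V = q ^ Module.finrank (ZMod q) V := by
      rw [Module.natCard_eq_pow_finrank (K := ZMod q), Nat.card_zmod]
    rw [hcard] at h1
    exact (Nat.pow_right_injective hq.out.two_le h1).symm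
  have : Finite (Module.End (ZMod q) V) := finite_end
  rw [Module.natCard_eq_pow_finrank (K := ZMod q), Nat.card_zmod, Module.finrank_linearMap, hn]

/-- injectivity of elements commuting with an irreducible automorphism -/
theorem injective_of_commute_irr (X : V ≃ₗ[ZMod q] V)
    (hirr : ∀ W : Submodule (ZMod q) V, (∀ w ∈ W, X w ∈ W) → W = ⊥ ∨ W = ⊤)
    (c : Module.End (ZMod q) V) (hc : c * (X : V →ₗ[ZMod q] V) = (X : V →ₗ[ZMod q] V) * c)
    (hc0 : c ≠ 0) : Injective c := by
  rw [← LinearMap.ker_eq_bot]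
  rcases hirr (LinearMap.ker c) (by
    intro w hw
    rw [LinearMap.mem_ker] at hw ⊢
    have := congrArg (fun f : Module.End (ZMod q) V => f w) hc
    simp only [Module.End.mul_apply] at this
    rw [LinearEquiv.coe_coe] at this
    rw [this, hw, map_zero]) with h | h
  · exact h
  · exfalso
    apply hc0
    ext v
    have hv : v ∈ LinearMap.ker c := by rw [h]; trivial
    rw [LinearMap.mem_ker] at hv
    rw [hv, LinearMap.zero_apply]

theorem star_of_irr (ρ : G →* (V ≃ₗ[ZMod q] V)) (x : G)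
    (hirr : ∀ W : Submodule (ZMod q) V, (∀ w ∈ W, ρ x w ∈ W) → W = ⊥ ∨ W = ⊤)
    (K : Subgroup G) (hK : ∀ a ∈ K, a * x = x * a) : Star ρ K := by
  intro c hc hc0
  apply injective_of_commute_irr (ρ x) hirr c _ hc0
  apply commute_kk ρ _ hc
  intro a ha
  show toEnd ρ a * toEnd ρ x = toEnd ρ x * toEnd ρ a
  rw [← map_mul, ← map_mul, hK a ha]

/-- the scalars -/
theorem smul_one_mem_kk (ρ : G →* (V ≃ₗ[ZMod q] V)) (A : Subgroup G) (c : ZMod q) :
    c • (1 : Module.End (ZMod q) V) ∈ kk ρ A := by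
  rw [← Algebra.algebraMap_eq_smul_one]
  exact Subalgebra.algebraMap_mem _ c

theorem le_card_kk [Nontrivial V] (ρ : G →* (V ≃ₗ[ZMod q] V)) (A : Subgroup G) :
    q ≤ Nat.card (kk ρ A) := by
  have : Finite (Module.End (ZMod q) V) := finite_end
  have hinj : Injective (fun c : ZMod q => (⟨c • 1, smul_one_mem_kk ρ A c⟩ : kk ρ A)) := by
    intro c d h
    have h1 : c • (1 : Module.End (ZMod q) V) = d • 1 := congrArg Subtype.val h
    obtain ⟨v, hv⟩ := exists_ne (0 : V)
    have h2 := congrArg (fun f : Module.End (ZMod q) V => f v) h1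
    simp only [LinearMap.smul_apply, Module.End.one_apply] at h2
    have h3 : (c - d) • v = 0 := by rw [sub_smul, h2, sub_self]
    rcases smul_eq_zero.mp h3 with h4 | h4
    · exact sub_eq_zero.mp h4
    · exact absurd h4 hv
  have := Nat.card_le_card_of_injective _ hinj
  rwa [Nat.card_zmod] at this

/-- if `kk` has only `q` elements then it consists of scalars -/
theorem scalar_of_card_kk [Nontrivial V] (ρ : G →* (V ≃ₗ[ZMod q] V)) (A : Subgroup G)
    (h : Nat.card (kk ρ A) ≤ q) {c : Module.End (ZMod q) V} (hc : c ∈ kk ρ A) :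
    ∃ z : ZMod q, c = z • (1 : Module.End (ZMod q) V) := by
  have : Finite (Module.End (ZMod q) V) := finite_end
  have hinj : Injective (fun c : ZMod q => (⟨c • 1, smul_one_mem_kk ρ A c⟩ : kk ρ A)) := by
    intro c d h
    have h1 : c • (1 : Module.End (ZMod q) V) = d • 1 := congrArg Subtype.val h
    obtain ⟨v, hv⟩ := exists_ne (0 : V)
    have h2 := congrArg (fun f : Module.End (ZMod q) V => f v) h1
    simp only [LinearMap.smul_apply, Module.End.one_apply] at h2
    have h3 : (c - d) • v = 0 := by rw [sub_smul, h2, sub_self]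
    rcases smul_eq_zero.mp h3 with h4 | h4
    · exact sub_eq_zero.mp h4
    · exact absurd h4 hv
  have hbij := hinj.bijective_of_nat_card_le (by rw [Nat.card_zmod]; exact h)
  obtain ⟨z, hz⟩ := hbij.2 ⟨c, hc⟩
  exact ⟨z, (congrArg Subtype.val hz).symm⟩

/-- an abelian subgroup with `Star` is cyclic -/
theorem isCyclic_of_star [Nontrivial V] (ρ : G →* (V ≃ₗ[ZMod q] V)) (hinj : Injective ρ)
    (Z : Subgroup G) (hab : ∀ a ∈ Z, ∀ b ∈ Z, a * b = b * a) (hstar : Star ρ Z) : IsCyclic Z := by
  have : Finite (Module.End (ZMod q) V) := finite_end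
  have hcomm : ∀ c d : kk ρ Z, c * d = d * c := by
    intro c d
    apply Subtype.ext
    show (c : Module.End (ZMod q) V) * d = d * c
    apply commute_kk ρ _ c.2
    intro a ha
    apply (commute_kk ρ _ d.2).symm
    intro b hb
    rw [← map_mul, ← map_mul, hab b hb a ha]
  letI : CommRing (kk ρ Z) := { (inferInstance : Ring (kk ρ Z)) with mul_comm := hcomm }
  haveI : Nontrivial (kk ρ Z) := by
    refine ⟨⟨0, 1, ?_⟩⟩
    intro h
    obtain ⟨v, hv⟩ := exists_ne (0 : V)
    apply hv
    have h1 : (0 : Module.End (ZMod q) V) = 1 := congrArg Subtype.val h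
    have := congrArg (fun f : Module.End (ZMod q) V => f v) h1
    simpa using this.symm
  haveI : NoZeroDivisors (kk ρ Z) := by
    refine ⟨fun {a b} h => ?_⟩
    by_contra hne
    push Not at hne
    have ha : (a : Module.End (ZMod q) V) ≠ 0 := fun h0 => hne.1 (Subtype.ext h0)
    have hb : (b : Module.End (ZMod q) V) ≠ 0 := fun h0 => hne.2 (Subtype.ext h0)
    exact mul_ne_zero_of_star hstar a.2 ha hb (congrArg Subtype.val h)
  haveI : IsDomain (kk ρ Z) := NoZeroDivisors.to_isDomain _
  let f : Z →* kk ρ Z :=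
    { toFun := fun a => ⟨toEnd ρ (a : G), toEnd_mem_kk ρ a.2⟩
      map_one' := by apply Subtype.ext; simp
      map_mul' := by
        intro a b
        apply Subtype.ext
        simp }
  apply isCyclic_of_subgroup_isDomain f
  intro a b h
  have h1 : toEnd ρ (a : G) = toEnd ρ (b : G) := congrArg Subtype.val h
  apply Subtype.ext
  apply hinj
  ext v
  have := congrArg (fun g : Module.End (ZMod q) V => g v) h1
  simpa [toEnd_apply] using this

/-- a `q`-subgroup has a non-zero fixed vector -/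
theorem exists_fixed_of_qgroup [Nontrivial V] (ρ : G →* (V ≃ₗ[ZMod q] V)) (S : Subgroup G)
    (hS : IsPGroup q S) : ∃ v : V, v ≠ 0 ∧ ∀ s ∈ S, ρ s v = v := by
  letI : MulAction S V := MulAction.compHom V (ρ.comp S.subtype)
  have hsmul : ∀ (s : S) (v : V), s • v = ρ (s : G) v := fun s v => rfl
  have hdvd : q ∣ Nat.card V := by
    have h1 : Nat.card V = q ^ Module.finrank (ZMod q) V := by
      rw [Module.natCard_eq_pow_finrank (K := ZMod q), Nat.card_zmod]
    rw [h1]
    have hpos : 0 < Module.finrank (ZMod q) V := Module.finrank_pos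
    exact dvd_pow_self q hpos.ne'
  have h0 : (0 : V) ∈ MulAction.fixedPoints S V := by
    intro s
    rw [hsmul, map_zero]
  obtain ⟨b, hb, hb0⟩ := hS.exists_fixed_point_of_prime_dvd_card_of_fixed_point V hdvd h0
  exact ⟨b, hb0.symm, fun s hs => hb ⟨s, hs⟩⟩

/-- the context -/
structure Ctx (ρ : G →* (V ≃ₗ[ZMod q] V)) (n p : ℕ) (x : G) : Prop where
  inj : Injective ρ
  card : Nat.card V = q ^ n
  two_le : 2 ≤ n
  prime : p.Prime
  ne : p ≠ q
  ppd : ∀ k, 0 < k → k < n → ¬ p ∣ q ^ k - 1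
  pow : x ^ p = 1
  ne_one : x ≠ 1

variable {ρ : G →* (V ≃ₗ[ZMod q] V)} {n p : ℕ} {x : G}

theorem Ctx.nontrivial (h : Ctx ρ n p x) : Nontrivial V := by
  rw [← Finite.one_lt_card_iff_nontrivial, h.card]
  exact Nat.one_lt_pow (by have := h.two_le; omega) hq.out.one_lt

theorem Ctx.fpf_irr (h : Ctx ρ n p x) :
    (∀ v, ρ x v = v → v = 0) ∧
      ∀ W : Submodule (ZMod q) V, (∀ w ∈ W, ρ x w ∈ W) → W = ⊥ ∨ W = ⊤ := by
  haveI : Fact p.Prime := ⟨h.prime⟩
  apply ppd_irreducible h.ne h.card h.ppd (ρ x)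
  · rw [← map_pow, h.pow, map_one]
  · intro h1
    exact h.ne_one (h.inj (by rw [h1, map_one]))

theorem Ctx.fpf (h : Ctx ρ n p x) : ∀ v, ρ x v = v → v = 0 := h.fpf_irr.1

theorem Ctx.irr (h : Ctx ρ n p x) :
    ∀ W : Submodule (ZMod q) V, (∀ w ∈ W, ρ x w ∈ W) → W = ⊥ ∨ W = ⊤ := h.fpf_irr.2

theorem Ctx.star (h : Ctx ρ n p x) (K : Subgroup G) (hK : ∀ a ∈ K, a * x = x * a) : Star ρ K :=
  star_of_irr ρ x h.irr K hK

/-- `n + 1 ≤ p` -/
theorem Ctx.lt_p (h : Ctx ρ n p x) : n + 1 ≤ p := by
  by_contra hlt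
  push Not at hlt
  have hp2 := h.prime.two_le
  have h1 : p ∣ q ^ (p - 1) - 1 := by
    have hcop : Nat.Coprime q p := by
      rw [Nat.coprime_comm]
      exact (Nat.Prime.coprime_iff_not_dvd h.prime).mpr
        (fun hd => h.ne ((Nat.prime_dvd_prime_iff_eq h.prime hq.out).mp hd))
    have h2 := Nat.ModEq.pow_totient hcop
    rw [Nat.totient_prime h.prime] at h2
    exact (Nat.modEq_iff_dvd' (Nat.one_le_pow _ _ hq.out.pos)).mp h2.symm
  exact h.ppd (p - 1) (by omega) (by omega) h1

end Cfsg.Agent.Lib.H4.Hup
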