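import Mathlib

/-!
# The index of the centre of a group with cyclic commutator subgroup of prime order (helper4)

If all commutators of the finite group `N` lie in the subgroup generated by a central element `z0`
with `z0 ^ r = 1` (`r` prime), then `[N : Z(N)] = r ^ (2 m)` for some `m`.
-/

set_option autoImplicit false

namespace Cfsg.Agent.Lib.H4.Hup

universe u

theorem index_center_sq_aux : ∀ (n : ℕ) (N : Type u) [Group N] [Finite N], Nat.card N = n →
    ∀ (r : ℕ), r.Prime → ∀ z0 : N, z0 ∈ Subgroup.center N → z0 ^ r = 1 →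
    (∀ g h : N, g * h * g⁻¹ * h⁻¹ ∈ Subgroup.zpowers z0) →
    ∃ m : ℕ, (Subgroup.center N).index = r ^ (2 * m) := by
  intro n
  induction n using Nat.strong_induction_on with
  | _ n ih =>
  intro N _ _ hn r hr z0 hz0c hz0r hcomm
  by_cases hab : Subgroup.center N = ⊤
  · exact ⟨0, by rw [hab, Subgroup.index_top, mul_zero, pow_zero]⟩
  -- a non-commuting pair
  obtain ⟨a, ha⟩ : ∃ a : N, a ∉ Subgroup.center N := by
    by_contra hall
    push Not at hall
    exact hab (eq_top_iff.mpr fun g _ => hall g)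
  obtain ⟨b, hb⟩ : ∃ b : N, b * a ≠ a * b := by
    by_contra hall
    push Not at hall
    exact ha (Subgroup.mem_center_iff.mpr hall)
  have hcen : ∀ g h k : N, (g * h * g⁻¹ * h⁻¹) * k = k * (g * h * g⁻¹ * h⁻¹) := by
    intro g h k
    have h1 : g * h * g⁻¹ * h⁻¹ ∈ Subgroup.center N :=
      (Subgroup.zpowers_le.mpr hz0c) (hcomm g h)
    exact (Subgroup.mem_center_iff.mp h1 k).symm
  set z := a * b * a⁻¹ * b⁻¹ with hz
  have hz1 : z ≠ 1 := by
    intro h1
    apply hb
    have : a * b = z * (b * a) := by rw [hz]; group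
    rw [this, h1, one_mul]
  have hz01 : z0 ≠ 1 := by
    intro h0
    have := hcomm a b
    rw [h0, Subgroup.zpowers_one_eq_bot, Subgroup.mem_bot] at this
    exact hz1 this
  have : Fact r.Prime := ⟨hr⟩
  have hord : orderOf z0 = r := orderOf_eq_prime hz0r hz01
  have hcardZ : Nat.card (Subgroup.zpowers z0) = r := by rw [Nat.card_zpowers, hord]
  -- the homomorphism
  let θ : N →* (Subgroup.zpowers z0) × (Subgroup.zpowers z0) :=
    { toFun := fun g => (⟨g * a * g⁻¹ * a⁻¹, hcomm g a⟩, ⟨g * b * g⁻¹ * b⁻¹, hcomm g b⟩)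
      map_one' := by
        apply Prod.ext <;> apply Subtype.ext <;> simp
      map_mul' := by
        intro g h
        apply Prod.ext <;> apply Subtype.ext
        · show g * h * a * (g * h)⁻¹ * a⁻¹ = (g * a * g⁻¹ * a⁻¹) * (h * a * h⁻¹ * a⁻¹)
          have e : g * h * a * (g * h)⁻¹ * a⁻¹ = g * ((h * a * h⁻¹ * a⁻¹) * (a * g⁻¹ * a⁻¹)) := by
            group
          rw [e, hcen h a]
          group
        · show g * h * b * (g * h)⁻¹ * b⁻¹ = (g * b * g⁻¹ * b⁻¹) * (h * b * h⁻¹ * b⁻¹)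
          have e : g * h * b * (g * h)⁻¹ * b⁻¹ = g * ((h * b * h⁻¹ * b⁻¹) * (b * g⁻¹ * b⁻¹)) := by
            group
          rw [e, hcen h b]
          group }
  have hθ1 : ∀ g, ((θ g).1 : N) = g * a * g⁻¹ * a⁻¹ := fun g => rfl
  have hθ2 : ∀ g, ((θ g).2 : N) = g * b * g⁻¹ * b⁻¹ := fun g => rfl
  have hθa : θ a = (1, ⟨z, hcomm a b⟩) := by
    apply Prod.ext <;> apply Subtype.ext
    · show a * a * a⁻¹ * a⁻¹ = 1
      group
    · rfl
  have hzi : b * a * b⁻¹ * a⁻¹ = z⁻¹ := by rw [hz]; group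
  have hθb : θ b = (⟨z⁻¹, hzi ▸ hcomm b a⟩, 1) := by
    apply Prod.ext <;> apply Subtype.ext
    · exact hzi
    · show b * b * b⁻¹ * b⁻¹ = 1
      group
  -- `z` generates
  have hgen : ∀ u : Subgroup.zpowers z0, ∃ j : ℕ, u = (⟨z, hcomm a b⟩ : Subgroup.zpowers z0) ^ j := by
    have hne : (⟨z, hcomm a b⟩ : Subgroup.zpowers z0) ≠ 1 := fun h => hz1 (congrArg Subtype.val h)
    have htop := zpowers_eq_top_of_prime_card (G := Subgroup.zpowers z0) hcardZ hne
    intro u
    have hu : u ∈ Subgroup.zpowers (⟨z, hcomm a b⟩ : Subgroup.zpowers z0) := by rw [htop]; trivial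
    obtain ⟨j, hj⟩ := mem_powers_iff_mem_zpowers.mpr hu
    exact ⟨j, hj.symm⟩
  have hsurj : Function.Surjective θ := by
    rintro ⟨u, v⟩
    obtain ⟨i, hi⟩ := hgen u⁻¹
    obtain ⟨j, hj⟩ := hgen v
    refine ⟨b ^ i * a ^ j, ?_⟩
    rw [map_mul, map_pow, map_pow, hθa, hθb]
    apply Prod.ext
    · simp only [Prod.pow_mk, Prod.mk_mul_mk, one_pow, mul_one]
      have : (⟨z⁻¹, hzi ▸ hcomm b a⟩ : Subgroup.zpowers z0) = (⟨z, hcomm a b⟩ : Subgroup.zpowers z0)⁻¹ :=
        rfl
      rw [this, inv_pow, ← hi, inv_inv]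
    · simp only [Prod.pow_mk, Prod.mk_mul_mk, one_pow, one_mul]
      exact hj.symm
  set M := θ.ker with hM
  have hMidx : M.index = r * r := by
    rw [hM, Subgroup.index_ker, MonoidHom.range_eq_top.mpr hsurj, Subgroup.card_top, Nat.card_prod,
      hcardZ]
  have haM : a ∉ M := by
    intro h
    rw [hM, MonoidHom.mem_ker, hθa] at h
    have := congrArg (fun t => ((Prod.snd t : Subgroup.zpowers z0) : N)) h
    exact hz1 this
  have hcM : Subgroup.center N ≤ M := by
    intro c hc
    rw [hM, MonoidHom.mem_ker]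
    have h1 := Subgroup.mem_center_iff.mp hc
    apply Prod.ext <;> apply Subtype.ext
    · show c * a * c⁻¹ * a⁻¹ = 1
      rw [← h1 a]
      group
    · show c * b * c⁻¹ * b⁻¹ = 1
      rw [← h1 b]
      group
  have hMcomm : ∀ c ∈ M, c * a = a * c ∧ c * b = b * c := by
    intro c hc
    rw [hM, MonoidHom.mem_ker] at hc
    have h1 : c * a * c⁻¹ * a⁻¹ = 1 := by
      have := congrArg (fun t => ((Prod.fst t : Subgroup.zpowers z0) : N)) hc
      exact this
    have h2 : c * b * c⁻¹ * b⁻¹ = 1 := by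
      have := congrArg (fun t => ((Prod.snd t : Subgroup.zpowers z0) : N)) hc
      exact this
    constructor
    · calc c * a = (c * a * c⁻¹ * a⁻¹) * (a * c) := by group
        _ = a * c := by rw [h1, one_mul]
    · calc c * b = (c * b * c⁻¹ * b⁻¹) * (b * c) := by group
        _ = b * c := by rw [h2, one_mul]
  -- the induction hypothesis for `M`
  have hcardM : Nat.card M < n := by
    rw [← hn]
    apply lt_of_le_of_ne (Subgroup.card_le_card_group M)
    intro h
    exact haM ((Subgroup.card_eq_iff_eq_top M).mp h ▸ Subgroup.mem_top a)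
  have hz0M : z0 ∈ M := hcM hz0c
  obtain ⟨m', hm'⟩ := ih (Nat.card M) hcardM ↥M rfl r hr ⟨z0, hz0M⟩
    (by
      rw [Subgroup.mem_center_iff]
      intro g
      apply Subtype.ext
      exact Subgroup.mem_center_iff.mp hz0c g)
    (Subtype.ext (by simpa using hz0r))
    (by
      intro g h
      obtain ⟨k, hk⟩ := Subgroup.mem_zpowers_iff.mp (hcomm (g : N) (h : N))
      rw [Subgroup.mem_zpowers_iff]
      refine ⟨k, Subtype.ext ?_⟩
      simpa using hk)
  -- the centre of `M`
  have hcenM : (Subgroup.center N).subgroupOf M = Subgroup.center ↥M := by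
    ext c
    rw [Subgroup.mem_subgroupOf, Subgroup.mem_center_iff, Subgroup.mem_center_iff]
    constructor
    · intro h g
      exact Subtype.ext (h g)
    · intro h g
      obtain ⟨g', hg'⟩ := hsurj (θ g)
      obtain ⟨i, hi⟩ := hgen (θ g).1⁻¹
      obtain ⟨j, hj⟩ := hgen (θ g).2
      -- `g = b^i a^j m`
      have hm : (b ^ i * a ^ j)⁻¹ * g ∈ M := by
        rw [hM, MonoidHom.mem_ker, map_mul, map_inv, map_mul, map_pow, map_pow, hθa, hθb]
        apply Prod.ext
        · simp only [Prod.pow_mk, Prod.mk_mul_mk, one_pow, mul_one, Prod.inv_mk, Prod.fst_mul,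
            Prod.fst_one]
          have e : (⟨z⁻¹, hzi ▸ hcomm b a⟩ : Subgroup.zpowers z0) =
              (⟨z, hcomm a b⟩ : Subgroup.zpowers z0)⁻¹ := rfl
          rw [e, inv_pow, ← hi, inv_inv, inv_mul_cancel]
        · simp only [Prod.pow_mk, Prod.mk_mul_mk, one_pow, one_mul, Prod.inv_mk, Prod.snd_mul,
            Prod.snd_one]
          rw [← hj, inv_mul_cancel]
      have hcm := congrArg Subtype.val (h ⟨_, hm⟩)
      simp only [Subgroup.coe_mul] at hcm
      have hca := (hMcomm c c.2).1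
      have hcb := (hMcomm c c.2).2
      have hcba : (b ^ i * a ^ j) * (c : N) = (c : N) * (b ^ i * a ^ j) := by
        have h1 : Commute (c : N) (b ^ i) := (show Commute (c : N) b from hcb).pow_right i
        have h2 : Commute (c : N) (a ^ j) := (show Commute (c : N) a from hca).pow_right j
        exact ((h1.mul_right h2).eq).symm
      calc g * (c : N) = (b ^ i * a ^ j) * (((b ^ i * a ^ j)⁻¹ * g) * (c : N)) := by group
        _ = (b ^ i * a ^ j) * ((c : N) * ((b ^ i * a ^ j)⁻¹ * g)) := by rw [hcm]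
        _ = ((b ^ i * a ^ j) * (c : N)) * ((b ^ i * a ^ j)⁻¹ * g) := by group
        _ = ((c : N) * (b ^ i * a ^ j)) * ((b ^ i * a ^ j)⁻¹ * g) := by rw [hcba]
        _ = (c : N) * g := by group
  refine ⟨m' + 1, ?_⟩
  rw [← Subgroup.relIndex_mul_index hcM, hMidx, Subgroup.relIndex, hcenM, hm']
  ring

theorem index_center_sq {N : Type u} [Group N] [Finite N] {r : ℕ} (hr : r.Prime) (z0 : N)
    (hz0c : z0 ∈ Subgroup.center N) (hz0r : z0 ^ r = 1)
    (hcomm : ∀ g h : N, g * h * g⁻¹ * h⁻¹ ∈ Subgroup.zpowers z0) :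
    ∃ m : ℕ, (Subgroup.center N).index = r ^ (2 * m) :=
  index_center_sq_aux _ N rfl r hr z0 hz0c hz0r hcomm

end Cfsg.Agent.Lib.H4.Hup
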