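import Mathlib
import Cfsg.Agent.Lib.H1.PGroupBasic
import Cfsg.Agent.Lib.H4.Hup.Full
import Cfsg.Agent.Lib.H4.Hup.Sq
import Cfsg.Agent.Lib.H4.Hup.Frob
import Cfsg.Agent.Lib.H4.Hup.Schur

/-!
# The local analysis (helper4)

`Loc ρ n p x r Q` : in the context `Ctx ρ n p x`, `Q` is an `r`-subgroup (`r ≠ p`) normalized but not
centralized by `x`, and minimal with these properties.  Then `r = 2`, `q` is odd, `n` is a power of
two, `p = n + 1`, `Q` is of class two with centre `KQ = C_Q(x)` consisting of scalars, of index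
`n ^ 2` in `Q`, and `Q` spans `End V`.
-/

set_option autoImplicit false

namespace Cfsg.Agent.Lib.H4.Hup

open Function

variable {q : ℕ} [hq : Fact q.Prime] {V : Type*} [AddCommGroup V] [Module (ZMod q) V] [Finite V]
variable {G : Type*} [Group G] [Finite G]

theorem conj_mem_closure {S : Set G} {x : G} (h : ∀ s ∈ S, x * s * x⁻¹ ∈ Subgroup.closure S) :
    ∀ s ∈ Subgroup.closure S, x * s * x⁻¹ ∈ Subgroup.closure S := by
  intro s hs
  induction hs using Subgroup.closure_induction with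
  | mem y hy => exact h y hy
  | one => simp
  | mul a b _ _ ha hb =>
    have : x * (a * b) * x⁻¹ = (x * a * x⁻¹) * (x * b * x⁻¹) := by group
    rw [this]; exact mul_mem ha hb
  | inv a _ ha =>
    have : x * a⁻¹ * x⁻¹ = (x * a * x⁻¹)⁻¹ := by group
    rw [this]; exact inv_mem ha

/-- the centralizer of `x` in `Q` -/
def KQ (x : G) (Q : Subgroup G) : Subgroup G := Q ⊓ Subgroup.centralizer {x}

theorem mem_KQ {x : G} {Q : Subgroup G} {g : G} : g ∈ KQ x Q ↔ g ∈ Q ∧ x * g = g * x := by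
  unfold KQ
  rw [Subgroup.mem_inf, Subgroup.mem_centralizer_iff]
  constructor
  · rintro ⟨h1, h2⟩
    exact ⟨h1, h2 x rfl⟩
  · rintro ⟨h1, h2⟩
    refine ⟨h1, fun h hh => ?_⟩
    rw [Set.mem_singleton_iff] at hh
    rw [hh, h2]

/-- the local data -/
structure Loc (ρ : G →* (V ≃ₗ[ZMod q] V)) (n p : ℕ) (x : G) (r : ℕ) (Q : Subgroup G) : Prop where
  ctx : Ctx ρ n p x
  rprime : r.Prime
  rne : r ≠ p
  pgrp : IsPGroup r Q
  inv : ∀ s ∈ Q, x * s * x⁻¹ ∈ Q
  nc : ∃ s ∈ Q, x * s ≠ s * x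
  min : ∀ R : Subgroup G, R ≤ Q → R ≠ Q → (∀ s ∈ R, x * s * x⁻¹ ∈ R) → ∀ s ∈ R, x * s = s * x

variable {ρ : G →* (V ≃ₗ[ZMod q] V)} {n p : ℕ} {x : G} {r : ℕ} {Q : Subgroup G}

/-- an element of `Q` whose `p`-th power is trivial is trivial -/
theorem Loc.eq_one_of_pow (L : Loc ρ n p x r Q) {c : G} (hc : c ∈ Q) (hcp : c ^ p = 1) : c = 1 := by
  haveI : Fact r.Prime := ⟨L.rprime⟩
  obtain ⟨k, hk⟩ := L.pgrp ⟨c, hc⟩
  have hk' : c ^ r ^ k = 1 := by
    have := congrArg Subtype.val hk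
    simpa using this
  have hcop : Nat.Coprime (r ^ k) p := by
    apply Nat.Coprime.pow_left
    rw [Nat.coprime_primes L.rprime L.ctx.prime]
    exact L.rne
  have h1 : orderOf c ∣ r ^ k := orderOf_dvd_of_pow_eq_one hk'
  have h2 : orderOf c ∣ p := orderOf_dvd_of_pow_eq_one hcp
  have h3 : orderOf c ∣ 1 := by
    have := Nat.dvd_gcd h1 h2
    rwa [hcop] at this
  exact orderOf_eq_one_iff.mp (Nat.dvd_one.mp h3)

/-- `Q = [Q, x]` -/
theorem Loc.closure_eq (L : Loc ρ n p x r Q) :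
    Subgroup.closure {c | ∃ g ∈ Q, c = x * g * x⁻¹ * g⁻¹} = Q := by
  set S : Set G := {c | ∃ g ∈ Q, c = x * g * x⁻¹ * g⁻¹} with hS
  have hle : Subgroup.closure S ≤ Q := by
    rw [Subgroup.closure_le]
    rintro c ⟨g, hg, rfl⟩
    exact Q.mul_mem (L.inv g hg) (Q.inv_mem hg)
  by_contra hne
  have hinv : ∀ s ∈ Subgroup.closure S, x * s * x⁻¹ ∈ Subgroup.closure S := by
    apply conj_mem_closure
    rintro c ⟨g, hg, rfl⟩
    apply Subgroup.subset_closure
    refine ⟨x * g * x⁻¹, L.inv g hg, ?_⟩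
    group
  have hcen := L.min _ hle hne hinv
  obtain ⟨s, hs, hxs⟩ := L.nc
  apply hxs
  set c := x * s * x⁻¹ * s⁻¹ with hc
  have hcS : c ∈ Subgroup.closure S := Subgroup.subset_closure ⟨s, hs, rfl⟩
  have hxc : x * c = c * x := hcen c hcS
  have hpow : ∀ k : ℕ, x ^ k * s * (x ^ k)⁻¹ = c ^ k * s := by
    intro k
    induction k with
    | zero => simp
    | succ k ih =>
      have e1 : x ^ (k + 1) * s * (x ^ (k + 1))⁻¹ = x * (x ^ k * s * (x ^ k)⁻¹) * x⁻¹ := by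
        rw [pow_succ']
        group
      rw [e1, ih]
      have e2 : x * (c ^ k * s) * x⁻¹ = (x * c ^ k * x⁻¹) * (x * s * x⁻¹ * s⁻¹) * s := by group
      have e3 : x * c ^ k * x⁻¹ = c ^ k := by
        have : Commute x (c ^ k) := (show Commute x c from hxc).pow_right k
        rw [this.eq, mul_assoc, mul_inv_cancel, mul_one]
      rw [e2, e3, ← hc, ← pow_succ]
  have h1 := hpow p
  rw [L.ctx.pow, one_mul, inv_one, mul_one] at h1
  have hcp : c ^ p = 1 := by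
    have : c ^ p * s = 1 * s := by rw [← h1, one_mul]
    exact mul_right_cancel this
  have hc1 : c = 1 := L.eq_one_of_pow (hle hcS) hcp
  have : x * s * x⁻¹ * s⁻¹ = 1 := hc1
  calc x * s = (x * s * x⁻¹ * s⁻¹) * s * x := by group
    _ = s * x := by rw [this, one_mul]

theorem Loc.ne_bot (L : Loc ρ n p x r Q) : Q ≠ ⊥ := by
  intro h
  obtain ⟨s, hs, hxs⟩ := L.nc
  rw [h, Subgroup.mem_bot] at hs
  apply hxs
  rw [hs, mul_one, one_mul]

/-- commutators and `r`-th powers of `Q` lie in `KQ` -/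
theorem Loc.frat (L : Loc ρ n p x r Q) :
    (∀ g ∈ Q, ∀ h ∈ Q, g * h * g⁻¹ * h⁻¹ ∈ KQ x Q) ∧ ∀ g ∈ Q, g ^ r ∈ KQ x Q := by
  haveI : Fact r.Prime := ⟨L.rprime⟩
  set S : Set G := {c | (∃ g ∈ Q, ∃ h ∈ Q, c = g * h * g⁻¹ * h⁻¹) ∨ ∃ g ∈ Q, c = g ^ r} with hS
  have hle : Subgroup.closure S ≤ Q := by
    rw [Subgroup.closure_le]
    rintro c (⟨g, hg, h, hh, rfl⟩ | ⟨g, hg, rfl⟩)
    · exact Q.mul_mem (Q.mul_mem (Q.mul_mem hg hh) (Q.inv_mem hg)) (Q.inv_mem hh)
    · exact Q.pow_mem hg r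
  -- contained in the Frattini subgroup
  have hfr : Subgroup.closure S ≤ (frattini ↥Q).map Q.subtype := by
    rw [Subgroup.closure_le]
    rintro c (⟨g, hg, h, hh, rfl⟩ | ⟨g, hg, rfl⟩)
    · refine ⟨⟨g, hg⟩ * ⟨h, hh⟩ * ⟨g, hg⟩⁻¹ * ⟨h, hh⟩⁻¹, ?_, rfl⟩
      apply Cfsg.Agent.Lib.H1.isPGroup_commutator_le_frattini L.pgrp
      have := Subgroup.commutator_mem_commutator (Subgroup.mem_top (⟨g, hg⟩ : ↥Q))
        (Subgroup.mem_top (⟨h, hh⟩ : ↥Q))
      rwa [commutatorElement_def] at this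
    · exact ⟨⟨g, hg⟩ ^ r, Cfsg.Agent.Lib.H1.isPGroup_pow_mem_frattini L.pgrp _, rfl⟩
  have hne : Subgroup.closure S ≠ Q := by
    intro heq
    haveI : Nontrivial ↥Q := by
      rw [Subgroup.nontrivial_iff_ne_bot]
      exact L.ne_bot
    rcases eq_top_or_exists_le_coatom (⊥ : Subgroup ↥Q) with h | ⟨M, hM, -⟩
    · exact bot_ne_top h
    · have h1 : frattini ↥Q ≤ M := frattini_le_coatom hM
      apply hM.1
      rw [eq_top_iff]
      intro g _
      have hg : (g : G) ∈ Subgroup.closure S := by rw [heq]; exact g.2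
      obtain ⟨g', hg', hgg⟩ := hfr hg
      have : g' = g := Subtype.ext hgg
      rw [← this]
      exact h1 hg'
  have hinv : ∀ s ∈ Subgroup.closure S, x * s * x⁻¹ ∈ Subgroup.closure S := by
    apply conj_mem_closure
    rintro c (⟨g, hg, h, hh, rfl⟩ | ⟨g, hg, rfl⟩)
    · apply Subgroup.subset_closure
      left
      refine ⟨x * g * x⁻¹, L.inv g hg, x * h * x⁻¹, L.inv h hh, ?_⟩
      group
    · apply Subgroup.subset_closure
      right
      refine ⟨x * g * x⁻¹, L.inv g hg, ?_⟩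
      rw [conj_pow]
  have hcen := L.min _ hle hne hinv
  constructor
  · intro g hg h hh
    have hm : g * h * g⁻¹ * h⁻¹ ∈ Subgroup.closure S :=
      Subgroup.subset_closure (Or.inl ⟨g, hg, h, hh, rfl⟩)
    exact mem_KQ.mpr ⟨hle hm, hcen _ hm⟩
  · intro g hg
    have hm : g ^ r ∈ Subgroup.closure S := Subgroup.subset_closure (Or.inr ⟨g, hg, rfl⟩)
    exact mem_KQ.mpr ⟨hle hm, hcen _ hm⟩

end Cfsg.Agent.Lib.H4.Hup
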