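import Mathlib
import Cfsg.Agent.Lib.H4.Hup.Local

/-!
# The local analysis, part 2: `KQ` is the centre of `Q`, and `Hyp ρ Q KQ` (helper4)
-/

set_option autoImplicit false

namespace Cfsg.Agent.Lib.H4.Hup

open Function
open scoped commutatorElement

variable {q : ℕ} [hq : Fact q.Prime] {V : Type*} [AddCommGroup V] [Module (ZMod q) V] [Finite V]
variable {G : Type*} [Group G] [Finite G]
variable {ρ : G →* (V ≃ₗ[ZMod q] V)} {n p : ℕ} {x : G} {r : ℕ} {Q : Subgroup G}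

theorem KQ_le {x : G} {Q : Subgroup G} : KQ x Q ≤ Q := inf_le_left

/-- `KQ` is central in `Q` -/
theorem Loc.cent (L : Loc ρ n p x r Q) : ∀ a ∈ KQ x Q, ∀ g ∈ Q, a * g = g * a := by
  have h1 : ⁅⁅Q, KQ x Q⁆, Subgroup.zpowers x⁆ = ⊥ := by
    rw [Subgroup.commutator_eq_bot_iff_le_centralizer, Subgroup.commutator_le]
    intro g hg k hk
    have hc : ⁅g, k⁆ ∈ KQ x Q := by
      rw [commutatorElement_def]
      exact L.frat.1 g hg k (KQ_le hk)
    rw [Subgroup.mem_centralizer_iff]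
    intro h hh
    obtain ⟨j, rfl⟩ := Subgroup.mem_zpowers_iff.mp hh
    have : Commute x ⁅g, k⁆ := (mem_KQ.mp hc).2
    exact (this.zpow_left j).eq
  have h2 : ⁅⁅KQ x Q, Subgroup.zpowers x⁆, Q⁆ = ⊥ := by
    have : ⁅KQ x Q, Subgroup.zpowers x⁆ = ⊥ := by
      rw [Subgroup.commutator_eq_bot_iff_le_centralizer]
      intro k hk
      rw [Subgroup.mem_centralizer_iff]
      intro h hh
      obtain ⟨j, rfl⟩ := Subgroup.mem_zpowers_iff.mp hh
      have : Commute x k := (mem_KQ.mp hk).2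
      exact (this.zpow_left j).eq
    rw [this, Subgroup.commutator_bot_left]
  have h3 := Subgroup.commutator_commutator_eq_bot_of_rotate h1 h2
  rw [Subgroup.commutator_eq_bot_iff_le_centralizer] at h3
  have hQ : Q ≤ ⁅Subgroup.zpowers x, Q⁆ := by
    calc Q = Subgroup.closure {c | ∃ g ∈ Q, c = x * g * x⁻¹ * g⁻¹} := L.closure_eq.symm
      _ ≤ ⁅Subgroup.zpowers x, Q⁆ := by
        rw [Subgroup.closure_le]
        rintro c ⟨g, hg, rfl⟩
        have := Subgroup.commutator_mem_commutator (Subgroup.mem_zpowers x) hg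
        rwa [commutatorElement_def] at this
  intro a ha g hg
  have := h3 (hQ hg)
  rw [Subgroup.mem_centralizer_iff] at this
  exact this a ha

/-- `r ≠ q` -/
theorem Loc.r_ne_q (L : Loc ρ n p x r Q) : r ≠ q := by
  intro hrq
  haveI : Nontrivial V := L.ctx.nontrivial
  have hQq : IsPGroup q Q := hrq ▸ L.pgrp
  obtain ⟨v0, hv0, hfix⟩ := exists_fixed_of_qgroup ρ Q hQq
  let W : Submodule (ZMod q) V :=
    { carrier := {v | ∀ s ∈ Q, ρ s v = v}
      add_mem' := by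
        intro a b ha hb s hs
        rw [map_add, ha s hs, hb s hs]
      zero_mem' := by
        intro s _
        rw [map_zero]
      smul_mem' := by
        intro c a ha s hs
        rw [map_smul, ha s hs] }
  have hWmem : ∀ v, v ∈ W ↔ ∀ s ∈ Q, ρ s v = v := fun v => Iff.rfl
  have hWinv : ∀ w ∈ W, ρ x w ∈ W := by
    intro w hw s hs
    have h1 : x⁻¹ * s * x ∈ Q := inv_conj_mem L.inv s hs
    have h2 : s * x = x * (x⁻¹ * s * x) := by group
    have h3 : ρ s (ρ x w) = ρ (s * x) w := by rw [map_mul]; rfl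
    rw [h3, h2, map_mul]
    show ρ x (ρ (x⁻¹ * s * x) w) = ρ x w
    rw [hw _ h1]
  rcases L.ctx.irr W hWinv with h | h
  · have : v0 ∈ W := hfix
    rw [h, Submodule.mem_bot] at this
    exact hv0 this
  · obtain ⟨s, hs, hxs⟩ := L.nc
    have hs1 : s = 1 := by
      apply L.ctx.inj
      ext v
      have hv : v ∈ W := by rw [h]; trivial
      rw [hv s hs, map_one]
      rfl
    apply hxs
    rw [hs1, mul_one, one_mul]

/-- `Q` is not abelian -/
theorem Loc.nonabelian (L : Loc ρ n p x r Q) : ∃ g ∈ Q, ∃ h ∈ Q, g * h ≠ h * g := by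
  by_contra hab
  push Not at hab
  haveI : Nontrivial V := L.ctx.nontrivial
  -- the commutator map is an endomorphism of `Q`
  let φ : ↥Q →* ↥Q :=
    { toFun := fun g => ⟨x * g * x⁻¹ * (g : G)⁻¹, Q.mul_mem (L.inv g g.2) (Q.inv_mem g.2)⟩
      map_one' := by
        apply Subtype.ext
        simp
      map_mul' := by
        intro a b
        apply Subtype.ext
        show x * (a * b : G) * x⁻¹ * (a * b : G)⁻¹ = (x * a * x⁻¹ * (a : G)⁻¹) * (x * b * x⁻¹ * (b : G)⁻¹)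
        have h1 : (a : G)⁻¹ * (x * b * x⁻¹ * (b : G)⁻¹) = (x * b * x⁻¹ * (b : G)⁻¹) * (a : G)⁻¹ :=
          hab _ (Q.inv_mem a.2) _ (Q.mul_mem (L.inv b b.2) (Q.inv_mem b.2))
        calc x * (a * b : G) * x⁻¹ * (a * b : G)⁻¹
            = x * a * x⁻¹ * ((x * b * x⁻¹ * (b : G)⁻¹) * (a : G)⁻¹) := by group
          _ = x * a * x⁻¹ * ((a : G)⁻¹ * (x * b * x⁻¹ * (b : G)⁻¹)) := by rw [h1]
          _ = _ := by group }
  have hφ : ∀ g : ↥Q, ((φ g : ↥Q) : G) = x * g * x⁻¹ * (g : G)⁻¹ := fun g => rfl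
  have hsurj : Surjective φ := by
    rw [← MonoidHom.range_eq_top]
    rw [eq_top_iff]
    intro g _
    have hg : (g : G) ∈ Subgroup.closure {c | ∃ g ∈ Q, c = x * g * x⁻¹ * g⁻¹} := by
      rw [L.closure_eq]
      exact g.2
    have hle : Subgroup.closure {c | ∃ g ∈ Q, c = x * g * x⁻¹ * g⁻¹} ≤ φ.range.map Q.subtype := by
      rw [Subgroup.closure_le]
      rintro c ⟨g, hg, rfl⟩
      exact ⟨φ ⟨g, hg⟩, ⟨⟨g, hg⟩, rfl⟩, rfl⟩
    obtain ⟨g', hg', hgg⟩ := hle hg
    have : g' = g := Subtype.ext hgg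
    rw [← this]
    exact hg'
  have hinj : Injective φ := Finite.injective_iff_surjective.mpr hsurj
  apply false_of_fpf_sub ρ L.ctx.inj x L.ctx.prime L.ctx.pow L.ctx.fpf L.ctx.irr Q L.ne_bot L.inv
  · intro s hs hxs
    have h1 : φ ⟨s, hs⟩ = 1 := by
      apply Subtype.ext
      rw [hφ]
      show x * s * x⁻¹ * s⁻¹ = 1
      rw [hxs]
      group
    have h2 : (⟨s, hs⟩ : ↥Q) = 1 := hinj (by rw [h1, map_one])
    exact congrArg Subtype.val h2
  · intro hdvd
    haveI : Fact r.Prime := ⟨L.rprime⟩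
    obtain ⟨k, hk⟩ := IsPGroup.iff_card.mp L.pgrp
    rw [hk] at hdvd
    have := (Nat.prime_dvd_prime_iff_eq hq.out L.rprime).mp (hq.out.dvd_of_dvd_pow hdvd)
    exact L.r_ne_q this.symm

/-- the centre of `Q` lies in `KQ` -/
theorem Loc.center_le (L : Loc ρ n p x r Q) {g : G} (hg : g ∈ Q)
    (hgc : ∀ h ∈ Q, g * h = h * g) : g ∈ KQ x Q := by
  let Z : Subgroup G := Q ⊓ Subgroup.centralizer (Q : Set G)
  have hZmem : ∀ g, g ∈ Z ↔ g ∈ Q ∧ ∀ h ∈ Q, h * g = g * h := by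
    intro g
    show g ∈ Q ⊓ Subgroup.centralizer (Q : Set G) ↔ _
    rw [Subgroup.mem_inf, Subgroup.mem_centralizer_iff]
    rfl
  have hle : Z ≤ Q := inf_le_left
  have hne : Z ≠ Q := by
    intro heq
    obtain ⟨a, ha, b, hb, hab⟩ := L.nonabelian
    apply hab
    have : b ∈ Z := by rw [heq]; exact hb
    exact ((hZmem b).mp this).2 a ha
  have hinv : ∀ s ∈ Z, x * s * x⁻¹ ∈ Z := by
    intro s hs
    rw [hZmem] at hs ⊢
    refine ⟨L.inv s hs.1, fun h hh => ?_⟩
    have h1 : x⁻¹ * h * x ∈ Q := inv_conj_mem L.inv h hh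
    have h2 := hs.2 _ h1
    calc h * (x * s * x⁻¹) = x * ((x⁻¹ * h * x) * s) * x⁻¹ := by group
      _ = x * (s * (x⁻¹ * h * x)) * x⁻¹ := by rw [h2]
      _ = x * s * x⁻¹ * h := by group
  have hcen := L.min Z hle hne hinv
  have hgZ : g ∈ Z := (hZmem g).mpr ⟨hg, fun h hh => (hgc h hh).symm⟩
  exact mem_KQ.mpr ⟨hg, hcen g hgZ⟩

theorem Loc.hyp (L : Loc ρ n p x r Q) : Hyp ρ Q (KQ x Q) where
  le := KQ_le
  cent := L.cent
  comm := fun g hg h hh => L.frat.1 h hh g hg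
  sep := by
    intro g hg hgK
    by_contra hall
    push Not at hall
    apply hgK
    apply L.center_le hg
    intro h hh
    have h1 : h * g * h⁻¹ * g⁻¹ = 1 := by
      apply L.ctx.inj
      rw [hall h hh, map_one]
    calc g * h = (h * g * h⁻¹ * g⁻¹)⁻¹ * (h * g) := by group
      _ = h * g := by rw [h1, inv_one, one_mul]
  star := L.ctx.star _ (fun a ha => ((mem_KQ.mp ha).2).symm)

end Cfsg.Agent.Lib.H4.Hup
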