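import Mathlib
import Cfsg.Agent.Lib.H4.Hup.Local2

/-!
# The local analysis, part 3: the numerical consequences (helper4)
-/

set_option autoImplicit false

namespace Cfsg.Agent.Lib.H4.Hup

open Function

variable {q : ℕ} [hq : Fact q.Prime] {V : Type*} [AddCommGroup V] [Module (ZMod q) V] [Finite V]
variable {G : Type*} [Group G] [Finite G]
variable {ρ : G →* (V ≃ₗ[ZMod q] V)} {n p : ℕ} {x : G} {r : ℕ} {Q : Subgroup G}

/-- `[Q : KQ] ≡ 1 mod p` -/
theorem Loc.relIndex_modEq (L : Loc ρ n p x r Q) : (KQ x Q).relIndex Q ≡ 1 [MOD p] := by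
  classical
  haveI : Fact p.Prime := ⟨L.ctx.prime⟩
  haveI : Fact r.Prime := ⟨L.rprime⟩
  haveI : Fintype ↥Q := Fintype.ofFinite _
  let f : Function.End ↥Q := fun g => ⟨x * g * x⁻¹, L.inv g g.2⟩
  have hfk : ∀ (k : ℕ) (g : ↥Q), (((f ^ k) g : ↥Q) : G) = x ^ k * g * (x ^ k)⁻¹ := by
    intro k
    induction k with
    | zero =>
      intro g
      rw [pow_zero, pow_zero, one_mul, inv_one, mul_one]
      rfl
    | succ k ih =>
      intro g
      have h1 : (f ^ (k + 1)) g = (f ^ k) (f g) := by rw [pow_succ]; rfl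
      rw [h1, ih, pow_succ]
      show x ^ k * (x * g * x⁻¹) * (x ^ k)⁻¹ = x ^ k * x * g * (x ^ k * x)⁻¹
      group
  have hf : f ^ p ^ 1 = 1 := by
    funext g
    apply Subtype.ext
    rw [pow_one, hfk, L.ctx.pow, one_mul, inv_one, mul_one]
    rfl
  have h1 := Equiv.Perm.card_fixedPoints_modEq (p := p) (n := 1) hf
  have e : ↥(Function.fixedPoints f) ≃ ↥(KQ x Q) :=
    { toFun := fun w => ⟨w.1.1, mem_KQ.mpr ⟨w.1.2, by
        have h2 : x * (w.1 : G) * x⁻¹ = w.1 := congrArg Subtype.val w.2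
        calc x * (w.1 : G) = x * (w.1 : G) * x⁻¹ * x := by group
          _ = w.1 * x := by rw [h2]⟩⟩
      invFun := fun v => ⟨⟨v.1, (mem_KQ.mp v.2).1⟩, by
        apply Subtype.ext
        show x * (v : G) * x⁻¹ = v
        rw [(mem_KQ.mp v.2).2, mul_assoc, mul_inv_cancel, mul_one]⟩
      left_inv := fun w => rfl
      right_inv := fun v => rfl }
  have h2 : Nat.card ↥Q ≡ Nat.card ↥(KQ x Q) [MOD p] := by
    rw [Nat.card_eq_fintype_card, ← Nat.card_congr e, Nat.card_eq_fintype_card]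
    exact h1
  have h3 : Nat.card ↥(KQ x Q) * (KQ x Q).relIndex Q = Nat.card ↥Q := by
    have := Subgroup.relIndex_mul_relIndex ⊥ (KQ x Q) Q bot_le KQ_le
    rwa [Subgroup.relIndex_bot_left, Subgroup.relIndex_bot_left] at this
  have hcop : Nat.Coprime p (Nat.card ↥(KQ x Q)) := by
    obtain ⟨k, hk⟩ := IsPGroup.iff_card.mp (L.pgrp.to_le (KQ_le : KQ x Q ≤ Q))
    rw [hk]
    apply Nat.Coprime.pow_right
    rw [Nat.coprime_primes L.ctx.prime L.rprime]
    exact L.rne.symm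
  have h4 : Nat.card ↥(KQ x Q) * (KQ x Q).relIndex Q ≡ Nat.card ↥(KQ x Q) * 1 [MOD p] := by
    rw [h3, mul_one]
    exact h2
  exact Nat.ModEq.cancel_left_of_coprime hcop h4

/-- commutators of `Q` have `r`-th power one -/
theorem Loc.comm_pow (L : Loc ρ n p x r Q) {g h : G} (hg : g ∈ Q) (hh : h ∈ Q) :
    (g * h * g⁻¹ * h⁻¹) ^ r = 1 := by
  set c := g * h * g⁻¹ * h⁻¹ with hc
  have hcK : c ∈ KQ x Q := L.frat.1 g hg h hh
  have hcg : ∀ k : ℕ, c ^ k * g = g * c ^ k := fun k =>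
    L.cent _ ((KQ x Q).pow_mem hcK k) g hg
  have key : ∀ k : ℕ, g ^ k * h * (g ^ k)⁻¹ * h⁻¹ = c ^ k := by
    intro k
    induction k with
    | zero => simp
    | succ k ih =>
      have e1 : g ^ (k + 1) * h * (g ^ (k + 1))⁻¹ * h⁻¹ =
          g * (g ^ k * h * (g ^ k)⁻¹ * h⁻¹) * h * g⁻¹ * h⁻¹ := by
        rw [pow_succ']
        group
      rw [e1, ih, ← hcg k, pow_succ]
      rw [hc]
      group
  have h1 := key r
  have h2 : g ^ r * h = h * g ^ r := L.cent _ (L.frat.2 g hg) h hh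
  rw [← h1, h2]
  group

/-- all commutators lie in the group generated by one of them -/
theorem Loc.exists_z0 (L : Loc ρ n p x r Q) :
    ∃ z0 ∈ KQ x Q, z0 ≠ 1 ∧ z0 ^ r = 1 ∧
      ∀ g ∈ Q, ∀ h ∈ Q, g * h * g⁻¹ * h⁻¹ ∈ Subgroup.zpowers z0 := by
  classical
  haveI : Nontrivial V := L.ctx.nontrivial
  haveI : Fact r.Prime := ⟨L.rprime⟩
  obtain ⟨g0, hg0, h0, hh0, hne0⟩ := L.nonabelian
  set z0 := g0 * h0 * g0⁻¹ * h0⁻¹ with hz0
  have hz0K : z0 ∈ KQ x Q := L.frat.1 g0 hg0 h0 hh0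
  have hz0ne : z0 ≠ 1 := by
    intro h1
    apply hne0
    calc g0 * h0 = (g0 * h0 * g0⁻¹ * h0⁻¹) * h0 * g0 := by group
      _ = h0 * g0 := by rw [← hz0, h1, one_mul]
  have hz0r : z0 ^ r = 1 := L.comm_pow hg0 hh0
  refine ⟨z0, hz0K, hz0ne, hz0r, ?_⟩
  intro g hg h hh
  haveI : IsCyclic ↥(KQ x Q) :=
    isCyclic_of_star ρ L.ctx.inj (KQ x Q) (fun a ha b hb => L.cent a ha b (KQ_le hb)) L.hyp.star
  haveI : Fintype ↥(KQ x Q) := Fintype.ofFinite _
  let z0' : ↥(KQ x Q) := ⟨z0, hz0K⟩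
  have hord : orderOf z0' = r := by
    have h1 : z0' ^ r = 1 := Subtype.ext (by simpa using hz0r)
    have h2 : z0' ≠ 1 := fun h => hz0ne (congrArg Subtype.val h)
    exact orderOf_eq_prime h1 h2
  -- the elements of `KQ` with `r`-th power one
  let ι : ↥(Subgroup.zpowers z0') → {a : ↥(KQ x Q) // a ^ r = 1} := fun w => ⟨w.1, by
    obtain ⟨j, hj⟩ := Subgroup.mem_zpowers_iff.mp w.2
    rw [← hj, ← zpow_natCast, ← zpow_mul, mul_comm, zpow_mul, zpow_natCast]
    have h1 : z0' ^ r = 1 := Subtype.ext (by simpa using hz0r)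
    rw [h1, one_zpow]⟩
  have hι : Injective ι := by
    intro a b hab
    apply Subtype.ext
    exact congrArg (fun a : {a : ↥(KQ x Q) // a ^ r = 1} => (a : ↥(KQ x Q))) hab
  have hcard : Nat.card {a : ↥(KQ x Q) // a ^ r = 1} ≤ Nat.card ↥(Subgroup.zpowers z0') := by
    rw [Nat.card_zpowers, hord, Nat.card_eq_fintype_card, Fintype.card_subtype]
    exact IsCyclic.card_pow_eq_one_le L.rprime.pos
  have hbij := hι.bijective_of_nat_card_le hcard
  have hcK : g * h * g⁻¹ * h⁻¹ ∈ KQ x Q := L.frat.1 g hg h hh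
  obtain ⟨w, hw⟩ := hbij.2 ⟨⟨g * h * g⁻¹ * h⁻¹, hcK⟩, Subtype.ext (by simpa using L.comm_pow hg hh)⟩
  obtain ⟨j, hj⟩ := Subgroup.mem_zpowers_iff.mp w.2
  rw [Subgroup.mem_zpowers_iff]
  refine ⟨j, ?_⟩
  have h1 : ((w : ↥(KQ x Q)) : G) = g * h * g⁻¹ * h⁻¹ := by
    have := congrArg (fun a : {a : ↥(KQ x Q) // a ^ r = 1} => ((a : ↥(KQ x Q)) : G)) hw
    exact this
  rw [← h1, ← hj]
  simp [z0']

/-- the index of `KQ` in `Q` is an even power of `r` -/
theorem Loc.relIndex_eq (L : Loc ρ n p x r Q) : ∃ m : ℕ, (KQ x Q).relIndex Q = r ^ (2 * m) := by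
  obtain ⟨z0, hz0K, hz0ne, hz0r, hz0⟩ := L.exists_z0
  have hcen : (KQ x Q).subgroupOf Q = Subgroup.center ↥Q := by
    ext g
    rw [Subgroup.mem_subgroupOf, Subgroup.mem_center_iff]
    constructor
    · intro hg h
      apply Subtype.ext
      exact (L.cent _ hg h h.2).symm
    · intro hg
      apply L.center_le g.2
      intro h hh
      have := hg ⟨h, hh⟩
      exact (congrArg Subtype.val this).symm
  let z0Q : ↥Q := ⟨z0, KQ_le hz0K⟩
  have h1 : z0Q ∈ Subgroup.center ↥Q := by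
    rw [← hcen, Subgroup.mem_subgroupOf]
    exact hz0K
  have h2 : z0Q ^ r = 1 := Subtype.ext (by simpa using hz0r)
  have h3 : ∀ g h : ↥Q, g * h * g⁻¹ * h⁻¹ ∈ Subgroup.zpowers z0Q := by
    intro g h
    obtain ⟨j, hj⟩ := Subgroup.mem_zpowers_iff.mp (hz0 g g.2 h h.2)
    rw [Subgroup.mem_zpowers_iff]
    refine ⟨j, Subtype.ext ?_⟩
    simp [z0Q, hj]
  obtain ⟨m, hm⟩ := index_center_sq L.rprime z0Q h1 h2 h3
  exact ⟨m, by rw [Subgroup.relIndex, hcen, hm]⟩

theorem Loc.numerics (L : Loc ρ n p x r Q) :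
    ∃ m : ℕ, 1 ≤ m ∧ n = 2 ^ m ∧ r = 2 ∧ p = n + 1 ∧ (KQ x Q).relIndex Q = n * n ∧
      Nat.card (kk ρ (KQ x Q)) = q := by
  haveI : Nontrivial V := L.ctx.nontrivial
  obtain ⟨m, hm⟩ := L.relIndex_eq
  have hmod := L.relIndex_modEq
  have hm1 : 1 ≤ m := by
    by_contra h0
    have : m = 0 := by omega
    rw [this, mul_zero, pow_zero, Subgroup.relIndex_eq_one] at hm
    obtain ⟨s, hs, hxs⟩ := L.nc
    exact hxs (mem_KQ.mp (hm hs)).2
  have hk := le_card_kk ρ (KQ x Q)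
  have hcount := L.hyp.card_pow_le
  rw [card_end L.ctx.card, hm] at hcount
  rw [hm] at hmod
  have hr2 := L.rprime.two_le
  have ha2 : 2 ≤ r ^ m := by
    calc 2 ≤ r := hr2
      _ = r ^ 1 := (pow_one r).symm
      _ ≤ r ^ m := Nat.pow_le_pow_right (by omega) hm1
  have he : r ^ (2 * m) = r ^ m * r ^ m := by
    rw [← pow_add]
    congr 1
    omega
  rw [he] at hcount hmod
  obtain ⟨a, ha⟩ : ∃ a, r ^ m = a := ⟨_, rfl⟩
  rw [ha] at ha2 hcount hmod
  have h1 : q ^ (a * a) ≤ q ^ (n * n) := le_trans (Nat.pow_le_pow_left hk _) hcount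
  have h2 : a * a ≤ n * n := (Nat.pow_le_pow_iff_right hq.out.one_lt).mp h1
  have h3 : a ≤ n := by nlinarith
  have hp := L.ctx.prime
  have h4 : p ∣ a * a - 1 := (Nat.modEq_iff_dvd' (by nlinarith)).mp hmod.symm
  have h5 : a * a - 1 = (a + 1) * (a - 1) := by
    have := Nat.sq_sub_sq a 1
    rw [one_pow, sq] at this
    exact this
  have hlt := L.ctx.lt_p
  rw [h5] at h4
  rcases hp.dvd_mul.mp h4 with h6 | h6
  · have h7 : p ≤ a + 1 := Nat.le_of_dvd (by omega) h6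
    have hpa : p = a + 1 := by omega
    have han : a = n := by omega
    have hr : r = 2 := by
      rcases hp.eq_two_or_odd' with h8 | h8
      · omega
      · have h9 : Even a := by
          rw [hpa] at h8
          rcases Nat.even_or_odd a with h | h
          · exact h
          · exact absurd (h.add_odd odd_one) (by rwa [Nat.not_even_iff_odd])
        have h10 : 2 ∣ r ^ m := by
          rw [ha]
          exact h9.two_dvd
        have h11 := Nat.prime_two.dvd_of_dvd_pow h10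
        exact ((Nat.prime_dvd_prime_iff_eq Nat.prime_two L.rprime).mp h11).symm
    refine ⟨m, hm1, ?_, hr, ?_, ?_, ?_⟩
    · rw [← han, ← ha, hr]
    · omega
    · rw [hm, he, ha, han]
    · rw [han] at hcount
      have hnn : n * n ≠ 0 := by
        have := L.ctx.two_le
        positivity
      have := (Nat.pow_le_pow_iff_left hnn).mp hcount
      omega
  · have h7 : p ≤ a - 1 := Nat.le_of_dvd (by omega) h6
    omega

end Cfsg.Agent.Lib.H4.Hup
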