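import Mathlib
import Cfsg.Agent.Lib.H4.Hup.Local3

/-!
# The local analysis, part 4: scalars and the centralizer of `Q` modulo scalars (helper4)
-/

set_option autoImplicit false

namespace Cfsg.Agent.Lib.H4.Hup

open Function

variable {q : ℕ} [hq : Fact q.Prime] {V : Type*} [AddCommGroup V] [Module (ZMod q) V]
variable {G : Type*} [Group G]

/-- the subgroup of elements acting as scalars -/
def scal (ρ : G →* (V ≃ₗ[ZMod q] V)) : Subgroup G where
  carrier := {g | ∃ z : ZMod q, ∀ v, ρ g v = z • v}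
  mul_mem' := by
    rintro a b ⟨z, hz⟩ ⟨w, hw⟩
    refine ⟨z * w, fun v => ?_⟩
    rw [map_mul, LinearEquiv.mul_apply, hw, map_smul, hz, smul_smul, mul_comm]
  one_mem' := ⟨1, fun v => by rw [map_one, one_smul]; rfl⟩
  inv_mem' := by
    rintro a ⟨z, hz⟩
    refine ⟨z⁻¹, fun v => ?_⟩
    have h1 : ρ a (ρ a⁻¹ v) = v := by
      rw [← LinearEquiv.mul_apply, ← map_mul, mul_inv_cancel, map_one]
      rfl
    rw [hz] at h1
    by_cases hz0 : z = 0
    · rw [hz0, zero_smul] at h1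
      rw [← h1, smul_zero, map_zero]
    · have h2 : z⁻¹ • v = z⁻¹ • z • (ρ a⁻¹) v := by rw [h1]
      rw [h2, smul_smul, inv_mul_cancel₀ hz0, one_smul]

theorem mem_scal {ρ : G →* (V ≃ₗ[ZMod q] V)} {g : G} :
    g ∈ scal ρ ↔ ∃ z : ZMod q, ∀ v, ρ g v = z • v := Iff.rfl

theorem mem_scal' {ρ : G →* (V ≃ₗ[ZMod q] V)} {g : G} :
    g ∈ scal ρ ↔ ∃ z : ZMod q, toEnd ρ g = z • (1 : Module.End (ZMod q) V) := by
  rw [mem_scal]
  constructor
  · rintro ⟨z, hz⟩
    refine ⟨z, ?_⟩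
    ext v
    rw [toEnd_apply, hz, LinearMap.smul_apply, Module.End.one_apply]
  · rintro ⟨z, hz⟩
    refine ⟨z, fun v => ?_⟩
    have := congrArg (fun f : Module.End (ZMod q) V => f v) hz
    simpa [toEnd_apply] using this

instance scal_normal (ρ : G →* (V ≃ₗ[ZMod q] V)) : (scal ρ).Normal := by
  constructor
  rintro n ⟨z, hz⟩ g
  refine ⟨z, fun v => ?_⟩
  rw [map_mul, map_mul, LinearEquiv.mul_apply, LinearEquiv.mul_apply, hz, map_smul,
    ← LinearEquiv.mul_apply, ← map_mul, mul_inv_cancel, map_one]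
  rfl

theorem scal_central {ρ : G →* (V ≃ₗ[ZMod q] V)} (hinj : Injective ρ) {z : G} (hz : z ∈ scal ρ)
    (g : G) : z * g = g * z := by
  obtain ⟨w, hw⟩ := hz
  apply hinj
  ext v
  rw [map_mul, map_mul, LinearEquiv.mul_apply, LinearEquiv.mul_apply, hw, hw, map_smul]

variable [Finite V] [Finite G]
variable {ρ : G →* (V ≃ₗ[ZMod q] V)} {n p : ℕ} {x : G} {r : ℕ} {Q : Subgroup G}

theorem Loc.r_eq (L : Loc ρ n p x r Q) : r = 2 := by
  obtain ⟨m, -, -, hr, -⟩ := L.numerics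
  exact hr

theorem Loc.q_ne_two (L : Loc ρ n p x r Q) : q ≠ 2 := by
  intro h
  exact L.r_ne_q (by rw [L.r_eq, h])

theorem Loc.sq_mem (L : Loc ρ n p x r Q) : ∀ g ∈ Q, g ^ 2 ∈ KQ x Q := by
  intro g hg
  have := L.frat.2 g hg
  rwa [L.r_eq] at this

theorem Loc.card_kk (L : Loc ρ n p x r Q) : Nat.card (kk ρ (KQ x Q)) = q := by
  obtain ⟨m, -, -, -, -, -, hk⟩ := L.numerics
  exact hk

theorem Loc.comb_surj (L : Loc ρ n p x r Q) : Surjective (comb ρ Q (KQ x Q)) := by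
  obtain ⟨m, -, -, -, -, hidx, hk⟩ := L.numerics
  apply L.hyp.comb_surjective
  rw [card_end L.ctx.card, hk, hidx]

theorem Loc.KQ_le_scal (L : Loc ρ n p x r Q) : KQ x Q ≤ scal ρ := by
  haveI : Nontrivial V := L.ctx.nontrivial
  intro a ha
  rw [mem_scal']
  exact scalar_of_card_kk ρ (KQ x Q) L.card_kk.le (toEnd_mem_kk ρ ha)

theorem Loc.mem_scal_of_commute (L : Loc ρ n p x r Q) {g : G} (hg : ∀ a ∈ Q, a * g = g * a) :
    g ∈ scal ρ := by
  haveI : Nontrivial V := L.ctx.nontrivial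
  rw [mem_scal']
  apply scalar_of_card_kk ρ (KQ x Q) L.card_kk.le
  apply L.hyp.mem_kk_of_commute L.comb_surj
  intro h hh
  rw [← map_mul, ← map_mul, hg h hh]

/-- a normal subgroup centralized by `x` consists of scalars -/
theorem Loc.le_scal (L : Loc ρ n p x r Q) (M : Subgroup G) (hM : M.Normal)
    (hMx : ∀ m ∈ M, x * m = m * x) : M ≤ scal ρ := by
  intro m hm
  apply L.mem_scal_of_commute
  have hle : Subgroup.closure {c | ∃ g ∈ Q, c = x * g * x⁻¹ * g⁻¹} ≤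
      Subgroup.centralizer {m} := by
    rw [Subgroup.closure_le]
    rintro c ⟨g, hg, rfl⟩
    rw [SetLike.mem_coe, Subgroup.mem_centralizer_iff]
    intro m0 hm0
    rw [Set.mem_singleton_iff] at hm0
    rw [hm0]
    have hm' : g⁻¹ * m * g ∈ M := by
      have := hM.conj_mem m hm g⁻¹
      rwa [inv_inv] at this
    have h1 : x * (g⁻¹ * m * g) = (g⁻¹ * m * g) * x := hMx _ hm'
    have h2 : x * m = m * x := hMx m hm
    have h3 : x⁻¹ * (g⁻¹ * m * g) = (g⁻¹ * m * g) * x⁻¹ := by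
      calc x⁻¹ * (g⁻¹ * m * g) = x⁻¹ * ((g⁻¹ * m * g) * x) * x⁻¹ := by group
        _ = x⁻¹ * (x * (g⁻¹ * m * g)) * x⁻¹ := by rw [h1]
        _ = (g⁻¹ * m * g) * x⁻¹ := by group
    symm
    calc x * g * x⁻¹ * g⁻¹ * m = x * g * (x⁻¹ * (g⁻¹ * m * g)) * g⁻¹ := by group
      _ = x * g * ((g⁻¹ * m * g) * x⁻¹) * g⁻¹ := by rw [h3]
      _ = (x * m) * g * x⁻¹ * g⁻¹ := by group
      _ = (m * x) * g * x⁻¹ * g⁻¹ := by rw [h2]
      _ = m * (x * g * x⁻¹ * g⁻¹) := by group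
  intro a ha
  have haS : a ∈ Subgroup.closure {c | ∃ g ∈ Q, c = x * g * x⁻¹ * g⁻¹} := by
    rw [L.closure_eq]
    exact ha
  have := hle haS
  rw [Subgroup.mem_centralizer_iff] at this
  exact (this m rfl).symm

theorem Loc.scal_inf (L : Loc ρ n p x r Q) : scal ρ ⊓ Q = KQ x Q := by
  apply le_antisymm
  · intro g hg
    rw [Subgroup.mem_inf] at hg
    exact mem_KQ.mpr ⟨hg.2, (scal_central L.ctx.inj hg.1 x).symm⟩
  · exact le_inf L.KQ_le_scal KQ_le

/-- a scalar of square one is `±1` -/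
theorem scal_sq {ρ : G →* (V ≃ₗ[ZMod q] V)} [Nontrivial V] {c : G} (hc : c ∈ scal ρ)
    (hc2 : c ^ 2 = 1) : ρ c = 1 ∨ ∀ v, ρ c v = -v := by
  obtain ⟨w, hw⟩ := hc
  obtain ⟨v0, hv0⟩ := exists_ne (0 : V)
  have h1 : (w * w) • v0 = v0 := by
    have : ρ (c ^ 2) v0 = v0 := by rw [hc2, map_one]; rfl
    rw [pow_two, map_mul, LinearEquiv.mul_apply, hw, hw, smul_smul] at this
    exact this
  have h2 : (w * w - 1) • v0 = 0 := by rw [sub_smul, h1, one_smul, sub_self]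
  have h3 : w * w - 1 = 0 := (smul_eq_zero.mp h2).resolve_right hv0
  have h4 : (w - 1) * (w + 1) = 0 := by rw [← h3]; ring
  rcases mul_eq_zero.mp h4 with h5 | h5
  · left
    ext v
    rw [hw, sub_eq_zero.mp h5, one_smul]
    rfl
  · right
    intro v
    rw [hw, eq_neg_of_add_eq_zero_left h5, neg_smul, one_smul]

/-- an element acting on `Q` as a scalar commutator is in `Q` modulo scalars -/
theorem Loc.exists_mul_inv (L : Loc ρ n p x r Q) {g : G}
    (hg : ∀ a ∈ Q, a * g * a⁻¹ * g⁻¹ ∈ scal ρ) : ∃ b ∈ Q, g * b⁻¹ ∈ scal ρ := by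
  haveI : Nontrivial V := L.ctx.nontrivial
  obtain ⟨z0, hz0K, hz0ne, hz0r, -⟩ := L.exists_z0
  rw [L.r_eq] at hz0r
  have hz0 : ∀ v, ρ z0 v = -v := by
    rcases scal_sq (L.KQ_le_scal hz0K) hz0r with h | h
    · exfalso
      apply hz0ne
      apply L.ctx.inj
      rw [h, map_one]
    · exact h
  have hg' : ∀ a ∈ Q, a * g * a⁻¹ * g⁻¹ ∈ KQ x Q := by
    intro a ha
    set c := a * g * a⁻¹ * g⁻¹ with hc
    have hcs : c ∈ scal ρ := hg a ha
    have hcc : ∀ h : G, c * h = h * c := scal_central L.ctx.inj hcs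
    have ha2 : a ^ 2 * g = g * a ^ 2 :=
      scal_central L.ctx.inj (L.KQ_le_scal (L.sq_mem a ha)) g
    have hc2 : c ^ 2 = 1 := by
      have e1 : c ^ 2 = (a * c * a⁻¹) * c := by
        rw [← hcc a, mul_assoc c, mul_inv_cancel, mul_one, pow_two]
      have e2 : (a * c * a⁻¹) * c = a ^ 2 * g * (a ^ 2)⁻¹ * g⁻¹ := by
        rw [hc, pow_two]
        group
      rw [e1, e2, ha2]
      group
    rcases scal_sq hcs hc2 with h | h
    · have : c = 1 := L.ctx.inj (by rw [h, map_one])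
      rw [this]
      exact (KQ x Q).one_mem
    · have : c = z0 := by
        apply L.ctx.inj
        ext v
        rw [h, hz0]
      rw [this]
      exact hz0K
  have hAc : ∀ a ∈ KQ x Q, ∀ f : Module.End (ZMod q) V, toEnd ρ a * f = f * toEnd ρ a := by
    intro a ha f
    obtain ⟨z, hz⟩ := mem_scal'.mp (L.KQ_le_scal ha)
    rw [hz, smul_mul_assoc, one_mul, mul_smul_comm, mul_one]
  obtain ⟨b, hb, hcomm⟩ := L.hyp.exists_mul_inv_commute L.comb_surj hAc hg'
  refine ⟨b, hb, ?_⟩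
  rw [mem_scal']
  apply scalar_of_card_kk ρ (KQ x Q) L.card_kk.le
  exact L.hyp.mem_kk_of_commute L.comb_surj hcomm

end Cfsg.Agent.Lib.H4.Hup
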