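import Mathlib
import Cfsg.Prelude.Def_Solvable
import Cfsg.Agent.Lib.H1.PCore
import Cfsg.Agent.Lib.H1.Fitting
import Cfsg.Agent.Lib.H7.DihedralLemma2
import Cfsg.Agent.Lib.H4.Hup.Local4

/-!
# The global dichotomy (helper4)

In the context `Ctx ρ n p x` with `G` solvable: either `G` has a normal cyclic subgroup `⟨a⟩` with
`ρ a` irreducible, or the exceptional structure `Exc ρ n N` occurs (with `q` odd, `n` a power of two
and `p = n + 1`).
-/

set_option autoImplicit false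

namespace Cfsg.Agent.Lib.H4.Hup

open Function

variable {q : ℕ} [hq : Fact q.Prime] {V : Type*} [AddCommGroup V] [Module (ZMod q) V] [Finite V]
variable {G : Type*} [Group G] [Finite G]
variable {ρ : G →* (V ≃ₗ[ZMod q] V)} {n p : ℕ} {x : G}

/-- a normal cyclic irreducible subgroup -/
def HasIrr (ρ : G →* (V ≃ₗ[ZMod q] V)) : Prop :=
  ∃ a : G, (Subgroup.zpowers a).Normal ∧
    ∀ W : Submodule (ZMod q) V, (∀ w ∈ W, ρ a w ∈ W) → W = ⊥ ∨ W = ⊤

/-- the exceptional structure -/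
structure Exc (ρ : G →* (V ≃ₗ[ZMod q] V)) (n : ℕ) (N : Subgroup G) : Prop where
  normal : N.Normal
  le : scal ρ ≤ N
  relIndex : (scal ρ).relIndex N = n * n
  sq : ∀ g ∈ N, g ^ 2 ∈ scal ρ
  comm : ∀ g ∈ N, ∀ h ∈ N, g * h * g⁻¹ * h⁻¹ ∈ scal ρ
  self_cent : ∀ g : G, (∀ a ∈ N, a * g * a⁻¹ * g⁻¹ ∈ scal ρ) → g ∈ N

theorem pow_mem_of_invariant (X : V ≃ₗ[ZMod q] V) (W : Submodule (ZMod q) V)
    (hW : ∀ w ∈ W, X w ∈ W) (k : ℕ) : ∀ w ∈ W, (X ^ k) w ∈ W := by
  induction k with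
  | zero => intro w hw; simpa using hw
  | succ k ih =>
    intro w hw
    rw [pow_succ, LinearEquiv.mul_apply]
    exact ih _ (hW w hw)

/-- Lemma I: a normal abelian subgroup containing an element of order `p` -/
theorem hasIrr_of_abelian (h : Ctx ρ n p x) (Z : Subgroup G) (hZn : Z.Normal)
    (hab : ∀ a ∈ Z, ∀ b ∈ Z, a * b = b * a) {y : G} (hyZ : y ∈ Z) (hyp : y ^ p = 1)
    (hy1 : y ≠ 1) : HasIrr ρ := by
  haveI : Nontrivial V := h.nontrivial
  have hy : Ctx ρ n p y :=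
    { inj := h.inj, card := h.card, two_le := h.two_le, prime := h.prime, ne := h.ne, ppd := h.ppd,
      pow := hyp, ne_one := hy1 }
  have hstar : Star ρ Z := hy.star Z (fun a ha => hab a ha y hyZ)
  haveI : IsCyclic ↥Z := isCyclic_of_star ρ h.inj Z hab hstar
  obtain ⟨a, ha⟩ := IsCyclic.exists_generator (α := ↥Z)
  have hZa : Subgroup.zpowers (a : G) = Z := by
    apply le_antisymm
    · rw [Subgroup.zpowers_le]
      exact a.2
    · intro z hz
      obtain ⟨j, hj⟩ := Subgroup.mem_zpowers_iff.mp (ha ⟨z, hz⟩)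
      rw [Subgroup.mem_zpowers_iff]
      refine ⟨j, ?_⟩
      have := congrArg Subtype.val hj
      simpa using this
  refine ⟨a, by rw [hZa]; exact hZn, ?_⟩
  intro W hW
  apply hy.irr W
  have hyz : y ∈ Subgroup.zpowers (a : G) := by rw [hZa]; exact hyZ
  have hyp' : y ∈ Submonoid.powers (a : G) :=
    (isOfFinOrder_of_finite (a : G)).mem_powers_iff_mem_zpowers.mpr hyz
  obtain ⟨k, hk⟩ := Submonoid.mem_powers_iff _ _ |>.mp hyp'
  intro w hw
  rw [← hk, map_pow]
  exact pow_mem_of_invariant (ρ a) W hW k w hw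

/-- a non-trivial normal `p`-subgroup -/
theorem hasIrr_of_normal_pgroup (h : Ctx ρ n p x) (P : Subgroup G) (hPn : P.Normal)
    (hP : IsPGroup p P) (hne : P ≠ ⊥) : HasIrr ρ := by
  haveI : Fact p.Prime := ⟨h.prime⟩
  haveI := hPn
  let Z : Subgroup G := P ⊓ Subgroup.centralizer (P : Set G)
  have hZn : Z.Normal := inferInstance
  haveI : Nontrivial ↥P := (Subgroup.nontrivial_iff_ne_bot P).mpr hne
  have hcen : Nontrivial (Subgroup.center ↥P) := hP.center_nontrivial
  obtain ⟨c, hc⟩ := exists_ne (1 : Subgroup.center ↥P)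
  have hcZ : ((c : ↥P) : G) ∈ Z := by
    refine Subgroup.mem_inf.mpr ⟨(c : ↥P).2, ?_⟩
    rw [Subgroup.mem_centralizer_iff]
    intro g hg
    have := Subgroup.mem_center_iff.mp c.2 ⟨g, hg⟩
    exact congrArg Subtype.val this
  have hZp : IsPGroup p Z := hP.to_le inf_le_left
  haveI : Nontrivial ↥Z := by
    refine ⟨⟨⟨_, hcZ⟩, 1, ?_⟩⟩
    intro h1
    apply hc
    apply Subtype.ext
    apply Subtype.ext
    exact congrArg (fun z : ↥Z => (z : G)) h1
  have hdvd : p ∣ Nat.card ↥Z := by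
    obtain ⟨k, hk⟩ := IsPGroup.iff_card.mp hZp
    have h1 : 1 < Nat.card ↥Z := Finite.one_lt_card
    rw [hk] at h1 ⊢
    have hk0 : k ≠ 0 := by
      rintro rfl
      simp at h1
    exact dvd_pow_self p hk0
  obtain ⟨y, hy⟩ := exists_prime_orderOf_dvd_card' p hdvd
  apply hasIrr_of_abelian h Z hZn _ y.2
  · have : y ^ p = 1 := by rw [← hy]; exact pow_orderOf_eq_one y
    have := congrArg Subtype.val this
    simpa using this
  · intro h1
    have : y = 1 := Subtype.ext h1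
    rw [this, orderOf_one] at hy
    exact h.prime.one_lt.ne hy
  · intro a ha b hb
    have h1 := Subgroup.mem_centralizer_iff.mp (Subgroup.mem_inf.mp ha).2 b (Subgroup.mem_inf.mp hb).1
    exact h1.symm

/-- the exceptional case: a normal `r`-subgroup not centralized by `x` -/
theorem exc_of_normal_rgroup (hsol : Group.IsSolvable G) (h : Ctx ρ n p x) (r : ℕ) (hrP : r.Prime)
    (hrp : r ≠ p) (O : Subgroup G) (hOn : O.Normal) (hOr : IsPGroup r O)
    (hO : ∃ s ∈ O, x * s ≠ s * x) :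
    q ≠ 2 ∧ (∃ m : ℕ, 1 ≤ m ∧ n = 2 ^ m) ∧ p = n + 1 ∧ ∃ N : Subgroup G, Exc ρ n N := by
  let P1 : Subgroup G → Prop := fun M => M.Normal ∧ M ≤ O ∧ ∃ s ∈ M, x * s ≠ s * x
  have hO1 : P1 O := ⟨hOn, le_rfl, hO⟩
  obtain ⟨N0, -, ⟨hN0n, hN0O, hN0x⟩, hN0m⟩ := exists_minimal_le_of_wellFoundedLT P1 O hO1
  let P2 : Subgroup G → Prop :=
    fun R => R ≤ N0 ∧ (∀ s ∈ R, x * s * x⁻¹ ∈ R) ∧ ∃ s ∈ R, x * s ≠ s * x
  have hN02 : P2 N0 := ⟨le_rfl, fun s hs => hN0n.conj_mem s hs x, hN0x⟩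
  obtain ⟨Q, -, ⟨hQN0, hQinv, hQx⟩, hQm⟩ := exists_minimal_le_of_wellFoundedLT P2 N0 hN02
  have L : Loc ρ n p x r Q :=
    { ctx := h
      rprime := hrP
      rne := hrp
      pgrp := hOr.to_le (hQN0.trans hN0O)
      inv := hQinv
      nc := hQx
      min := by
        intro R hRQ hRne hRinv
        by_contra hnc
        push Not at hnc
        apply hRne
        exact le_antisymm hRQ (hQm ⟨hRQ.trans hQN0, hRinv, hnc⟩ hRQ) }
  obtain ⟨m, hm1, hnm, -, hpn, hidx, -⟩ := L.numerics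
  refine ⟨L.q_ne_two, ⟨m, hm1, hnm⟩, hpn, ?_⟩
  haveI := hN0n
  have hcomm_le : ⁅N0, N0⁆ ≤ scal ρ := by
    apply L.le_scal ⁅N0, N0⁆ inferInstance
    by_contra hnc
    push Not at hnc
    have hle : ⁅N0, N0⁆ ≤ N0 := Subgroup.commutator_le_right N0 N0
    have h1 : N0 ≤ ⁅N0, N0⁆ := hN0m ⟨inferInstance, hle.trans hN0O, hnc⟩ hle
    have heq : ⁅N0, N0⁆ = N0 := le_antisymm hle h1
    haveI : Nontrivial ↥N0 := by
      rw [Subgroup.nontrivial_iff_ne_bot]
      intro hbot
      obtain ⟨s, hs, hxs⟩ := hN0x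
      rw [hbot, Subgroup.mem_bot] at hs
      apply hxs
      rw [hs, mul_one, one_mul]
    have h2 := Group.IsSolvable.commutator_lt_top_of_nontrivial ↥N0
    rw [← Subgroup.map_subtype_commutator] at heq
    have h3 : commutator ↥N0 = ⊤ := by
      apply Subgroup.map_injective N0.subtype_injective
      rw [heq, ← MonoidHom.range_eq_map, Subgroup.range_subtype]
    exact h2.ne h3
  have hN0Q : N0 ≤ Q ⊔ scal ρ := by
    intro g hg
    have h1 : ∀ a ∈ Q, a * g * a⁻¹ * g⁻¹ ∈ scal ρ := by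
      intro a ha
      apply hcomm_le
      have := Subgroup.commutator_mem_commutator (hQN0 ha) hg
      rwa [commutatorElement_def] at this
    obtain ⟨b, hb, hgb⟩ := L.exists_mul_inv h1
    have : g = (g * b⁻¹) * b := by group
    rw [this]
    exact Subgroup.mul_mem _ (Subgroup.mem_sup_right hgb) (Subgroup.mem_sup_left hb)
  have hNeq : N0 ⊔ scal ρ = Q ⊔ scal ρ :=
    le_antisymm (sup_le hN0Q le_sup_right) (sup_le_sup_right hQN0 _)
  refine ⟨Q ⊔ scal ρ, ?_⟩
  have hmem : ∀ g, g ∈ Q ⊔ scal ρ ↔ ∃ b ∈ Q, ∃ z ∈ scal ρ, b * z = g :=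
    fun g => Subgroup.mem_sup_of_normal_right
  have hred1 : ∀ (b z k : G), z ∈ scal ρ → (b * z) * k * (b * z)⁻¹ * k⁻¹ = b * k * b⁻¹ * k⁻¹ := by
    intro b z k hz
    have e1 : (b * z) * k * (b * z)⁻¹ * k⁻¹ = b * (z * k * z⁻¹) * b⁻¹ * k⁻¹ := by group
    rw [e1, scal_central h.inj hz k, mul_assoc k, mul_inv_cancel, mul_one]
  have hred2 : ∀ (b b' z' : G), z' ∈ scal ρ →
      b * (b' * z') * b⁻¹ * (b' * z')⁻¹ = b * b' * b⁻¹ * b'⁻¹ := by
    intro b b' z' hz'
    have e1 : b * (b' * z') * b⁻¹ * (b' * z')⁻¹ = b * b' * (z' * b⁻¹ * z'⁻¹) * b'⁻¹ := by group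
    rw [e1, scal_central h.inj hz' b⁻¹, mul_assoc b⁻¹, mul_inv_cancel, mul_one]
  exact
    { normal := by
        rw [← hNeq]
        infer_instance
      le := le_sup_right
      relIndex := by
        rw [Subgroup.relIndex_sup_right, ← Subgroup.inf_relIndex_right, L.scal_inf, hidx]
      sq := by
        intro g hg
        obtain ⟨b, hb, z, hz, rfl⟩ := (hmem g).mp hg
        have hc : Commute b z := (scal_central h.inj hz b).symm
        rw [hc.mul_pow]
        exact Subgroup.mul_mem _ (L.KQ_le_scal (L.sq_mem b hb)) (Subgroup.pow_mem _ hz 2)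
      comm := by
        intro g hg k hk
        obtain ⟨b, hb, z, hz, rfl⟩ := (hmem g).mp hg
        obtain ⟨b', hb', z', hz', rfl⟩ := (hmem k).mp hk
        rw [hred1 b z _ hz, hred2 b b' z' hz']
        exact L.KQ_le_scal (L.frat.1 b hb b' hb')
      self_cent := by
        intro g hg
        have h1 : ∀ a ∈ Q, a * g * a⁻¹ * g⁻¹ ∈ scal ρ :=
          fun a ha => hg a (Subgroup.mem_sup_left ha)
        obtain ⟨b, hb, hgb⟩ := L.exists_mul_inv h1
        have : g = (g * b⁻¹) * b := by group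
        rw [this]
        exact Subgroup.mul_mem _ (Subgroup.mem_sup_right hgb) (Subgroup.mem_sup_left hb) }

/-- the main dichotomy -/
theorem dichotomy (hsol : Group.IsSolvable G) (h : Ctx ρ n p x) :
    HasIrr ρ ∨ (q ≠ 2 ∧ (∃ m : ℕ, 1 ≤ m ∧ n = 2 ^ m) ∧ p = n + 1 ∧ ∃ N : Subgroup G, Exc ρ n N) := by
  haveI : Nontrivial V := h.nontrivial
  haveI : Fact p.Prime := ⟨h.prime⟩
  by_cases hF : ∀ g ∈ Cfsg.fittingSubgroup G, x * g = g * x
  · -- `x` lies in the centre of the Fitting subgroup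
    left
    have hFn : (Cfsg.fittingSubgroup G).Normal := Cfsg.Agent.Lib.H1.fittingSubgroup_normal G
    haveI := hFn
    have hxC : x ∈ Subgroup.centralizer (Cfsg.fittingSubgroup G : Set G) := by
      rw [Subgroup.mem_centralizer_iff]
      intro g hg
      exact (hF g hg).symm
    have hxF : x ∈ Cfsg.fittingSubgroup G :=
      Cfsg.Agent.Lib.H7.centralizer_fittingSubgroup_le_of_isSolvable G hxC
    let Z : Subgroup G := Cfsg.fittingSubgroup G ⊓
      Subgroup.centralizer (Cfsg.fittingSubgroup G : Set G)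
    have hZn : Z.Normal := inferInstance
    apply hasIrr_of_abelian h Z hZn _ (Subgroup.mem_inf.mpr ⟨hxF, hxC⟩) h.pow h.ne_one
    intro a ha b hb
    have h1 := Subgroup.mem_centralizer_iff.mp (Subgroup.mem_inf.mp ha).2 b (Subgroup.mem_inf.mp hb).1
    exact h1.symm
  · push Not at hF
    -- a prime `r` with `O_r(G)` not centralized by `x`
    obtain ⟨r, hr⟩ : ∃ r : Nat.Primes, ¬ Cfsg.pCore (r : ℕ) G ≤ Subgroup.centralizer {x} := by
      by_contra hall
      push Not at hall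
      obtain ⟨g, hg, hxg⟩ := hF
      apply hxg
      have hle : Cfsg.fittingSubgroup G ≤ Subgroup.centralizer {x} := by
        rw [Cfsg.Agent.Lib.H1.fittingSubgroup_eq_iSup_pCore]
        exact iSup_le hall
      have := Subgroup.mem_centralizer_iff.mp (hle hg) x rfl
      exact this
    haveI : Fact (r : ℕ).Prime := ⟨r.2⟩
    have hOn : (Cfsg.pCore (r : ℕ) G).Normal := Cfsg.Agent.Lib.H1.pCore_normal _ G
    have hOr : IsPGroup (r : ℕ) (Cfsg.pCore (r : ℕ) G) := Cfsg.Agent.Lib.H1.pCore_isPGroup _ G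
    by_cases hrp : (r : ℕ) = p
    · left
      apply hasIrr_of_normal_pgroup h _ hOn (hrp ▸ hOr)
      intro hbot
      apply hr
      rw [hbot]
      exact bot_le
    · right
      apply exc_of_normal_rgroup hsol h r r.2 hrp _ hOn hOr
      by_contra hall
      push Not at hall
      apply hr
      intro g hg
      rw [Subgroup.mem_centralizer_iff]
      intro y hy
      rw [Set.mem_singleton_iff] at hy
      rw [hy]
      exact hall g hg

end Cfsg.Agent.Lib.H4.Hup
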