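import Mathlib
import Cfsg.Agent.Lib.H4.Reg.FieldModel
import Cfsg.Agent.Lib.H4.NF.FinDomain
import Cfsg.Agent.Lib.H4.Hup.Global

/-!
# The semilinear model and the order bound (helper4)

If `G` has a normal cyclic subgroup acting irreducibly then `V` carries the structure of a field on
which `G` acts semilinearly; consequently `|G|` divides `(q ^ n - 1) * n`.
-/

set_option autoImplicit false

namespace Cfsg.Agent.Lib.H4.Hup

open Function

variable {q : ℕ} [hq : Fact q.Prime] {V : Type*} [AddCommGroup V] [Module (ZMod q) V] [Finite V]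
variable {G : Type*} [Group G] [Finite G]
variable {ρ : G →* (V ≃ₗ[ZMod q] V)}

theorem model_of_hasIrr [Nontrivial V] (h : HasIrr ρ) :
    ∃ (F : Type) (_ : Field F) (_ : Fintype F) (e : V ≃+ F),
      ∀ g : G, ∃ (a : F) (σ : F ≃+* F), ∀ v : V, e (ρ g v) = a * σ (e v) := by
  obtain ⟨a, hn, hirr⟩ := h
  obtain ⟨F, fF, ftF, e, he⟩ :=
    Cfsg.Agent.Lib.H4.Reg.exists_semilinear_model (ρ a) (fun W hW _ => hirr W hW)
  refine ⟨F, fF, ftF, e, fun g => ?_⟩
  apply he (ρ g)
  have : g * a * g⁻¹ ∈ Subgroup.zpowers a := hn.conj_mem a (Subgroup.mem_zpowers a) g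
  obtain ⟨j, hj⟩ := Subgroup.mem_zpowers_iff.mp this
  refine ⟨j, ?_⟩
  rw [← map_inv, ← map_mul, ← map_mul, ← hj, map_zpow]

theorem card_dvd_of_model [Nontrivial V] (hinj : Injective ρ) {n : ℕ} (hcard : Nat.card V = q ^ n)
    {F : Type} [Field F] [Fintype F] (e : V ≃+ F)
    (hmodel : ∀ g : G, ∃ (a : F) (σ : F ≃+* F), ∀ v : V, e (ρ g v) = a * σ (e v)) :
    Nat.card G ∣ (q ^ n - 1) * n := by
  classical
  -- the characteristic
  have h0 : ((q : ℕ) : F) = 0 := by
    have h1 : (q : ℕ) • (e.symm 1 : V) = 0 := by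
      rw [← Nat.cast_smul_eq_nsmul (ZMod q), ZMod.natCast_self, zero_smul]
    have h2 : e ((q : ℕ) • (e.symm 1 : V)) = (q : ℕ) • (1 : F) := by
      rw [map_nsmul, AddEquiv.apply_symm_apply]
    rw [h1, map_zero] at h2
    rw [← nsmul_one]
    exact h2.symm
  haveI : CharP F q := by
    have := CharP.ringChar_of_prime_eq_zero hq.out h0
    exact this ▸ ringChar.charP F
  letI : Algebra (ZMod q) F := ZMod.algebra F q
  have hFcard : Nat.card F = q ^ n := by rw [← Nat.card_congr e.toEquiv, hcard]
  have hfin : Module.finrank (ZMod q) F = n := by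
    have h1 : Nat.card F = q ^ Module.finrank (ZMod q) F := by
      rw [Module.natCard_eq_pow_finrank (K := ZMod q), Nat.card_zmod]
    rw [hFcard] at h1
    exact (Nat.pow_right_injective hq.out.two_le h1).symm
  choose c σ hcσ using hmodel
  have hc0 : ∀ g, c g ≠ 0 := by
    intro g hg
    obtain ⟨v, hv⟩ := exists_ne (0 : V)
    apply hv
    have h1 := hcσ g v
    rw [hg, zero_mul] at h1
    have h2 : ρ g v = 0 := by
      apply e.injective
      rw [h1, map_zero]
    have h3 : ρ g v = ρ g 0 := by rw [h2, map_zero]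
    exact (ρ g).injective h3
  have huniq : ∀ g (c' : F) (σ' : F ≃+* F), (∀ v, e (ρ g v) = c' * σ' (e v)) →
      c' = c g ∧ σ' = σ g := by
    intro g c' σ' h
    have h1 : c' = c g := by
      have h2 := h (e.symm 1)
      rw [hcσ g, AddEquiv.apply_symm_apply, map_one, map_one, mul_one, mul_one] at h2
      exact h2.symm
    refine ⟨h1, ?_⟩
    ext y
    have h2 := h (e.symm y)
    rw [hcσ g, AddEquiv.apply_symm_apply, h1] at h2
    exact (mul_left_cancel₀ (hc0 g) h2).symm
  have hmul : ∀ g h, c (g * h) = c g * σ g (c h) ∧ σ (g * h) = σ g * σ h := by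
    intro g h
    have := huniq (g * h) (c g * σ g (c h)) (σ g * σ h) (by
      intro v
      rw [map_mul, LinearEquiv.mul_apply, hcσ g, hcσ h, map_mul, RingAut.mul_apply, mul_assoc])
    exact ⟨this.1.symm, this.2.symm⟩
  -- algebra automorphisms
  let τ : G → (F ≃ₐ[ZMod q] F) := fun g =>
    AlgEquiv.ofRingEquiv (f := σ g) (fun z => by
      have : (σ g : F →+* F).comp (algebraMap (ZMod q) F) = algebraMap (ZMod q) F :=
        Subsingleton.elim _ _
      exact congrArg (fun f : ZMod q →+* F => f z) this)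
  have hτ : ∀ g y, τ g y = σ g y := fun g y => rfl
  let ψ : G →* (F ≃ₐ[ZMod q] F) := MonoidHom.mk' τ (by
    intro g h
    ext y
    rw [AlgEquiv.mul_apply, hτ, hτ, hτ, (hmul g h).2, RingAut.mul_apply])
  have hψ : ∀ g, g ∈ ψ.ker ↔ σ g = 1 := by
    intro g
    rw [MonoidHom.mem_ker]
    constructor
    · intro h
      ext y
      have := congrArg (fun f : F ≃ₐ[ZMod q] F => f y) h
      exact this
    · intro h
      ext y
      show σ g y = y
      rw [h]
      rfl
  have hrange : Nat.card ψ.range ∣ n := by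
    have h1 := Subgroup.card_subgroup_dvd_card ψ.range
    rwa [Cfsg.Agent.Lib.H4.NF.FinDomain.card_aut (p := q) (R := F), hfin] at h1
  -- the kernel embeds in the multiplicative group
  let κ : ψ.ker →* Fˣ :=
    { toFun := fun g => Units.mk0 (c (g : G)) (hc0 g)
      map_one' := by
        apply Units.ext
        show c ((1 : ψ.ker) : G) = 1
        have := huniq 1 1 1 (by intro v; rw [map_one, one_mul]; rfl)
        exact this.1.symm
      map_mul' := by
        intro g h
        apply Units.ext
        show c ((g : G) * (h : G)) = c g * c h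
        rw [(hmul g h).1, (hψ g).mp g.2]
        rfl }
  have hκ : Injective κ := by
    intro g h hgh
    have h1 : c (g : G) = c (h : G) := congrArg Units.val hgh
    apply Subtype.ext
    apply hinj
    ext v
    apply e.injective
    rw [hcσ, hcσ, h1, (hψ g).mp g.2, (hψ h).mp h.2]
  have hker : Nat.card ψ.ker ∣ q ^ n - 1 := by
    have h1 := Subgroup.card_dvd_of_injective κ hκ
    rwa [Nat.card_units, hFcard] at h1
  rw [← Subgroup.card_mul_index ψ.ker, Subgroup.index_ker]
  exact Nat.mul_dvd_mul hker hrange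

end Cfsg.Agent.Lib.H4.Hup
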