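import Mathlib
import Cfsg.Agent.Lib.H4.Hup.Bound

/-!
# The recursion step (helper4)

A solvable group acting on an elementary abelian `2`-group of order `2 ^ d` and containing an element
of primitive prime order `p` acting non-trivially induces a group of order dividing
`(2 ^ d - 1) * d`.  Applied to the action of `G` on a section `N / Z`.
-/

set_option autoImplicit false

namespace Cfsg.Agent.Lib.H4.Hup

open Function

theorem rec_linear {H : Type*} [Group H] [Finite H] (hsol : Group.IsSolvable H)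
    {E : Type*} [AddCommGroup E] [Module (ZMod 2) E] [Finite E]
    (φ : H →* (E ≃ₗ[ZMod 2] E)) {d p : ℕ} (hd : 2 ≤ d) (hcard : Nat.card E = 2 ^ d)
    (hp : p.Prime) (hp2 : p ≠ 2) (hppd : ∀ k, 0 < k → k < d → ¬ p ∣ 2 ^ k - 1) {x : H}
    (hxp : x ^ p = 1) (hx : φ x ≠ 1) : φ.ker.index ∣ (2 ^ d - 1) * d := by
  let ρ' : ↥φ.range →* (E ≃ₗ[ZMod 2] E) := φ.range.subtype
  have hinj : Injective ρ' := Subtype.val_injective
  have hsol' : Group.IsSolvable ↥φ.range :=
    Group.isSolvable_of_surjective (f := φ.rangeRestrict) φ.rangeRestrict_surjective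
  haveI : Finite ↥φ.range := Finite.of_surjective φ.rangeRestrict φ.rangeRestrict_surjective
  let x' : ↥φ.range := ⟨φ x, x, rfl⟩
  have hctx : Ctx ρ' d p x' :=
    { inj := hinj
      card := hcard
      two_le := hd
      prime := hp
      ne := hp2
      ppd := hppd
      pow := by
        apply Subtype.ext
        show (φ x) ^ p = 1
        rw [← map_pow, hxp, map_one]
      ne_one := fun h => hx (congrArg Subtype.val h) }
  haveI : Nontrivial E := hctx.nontrivial
  rcases dichotomy hsol' hctx with h | ⟨h2, -⟩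
  · obtain ⟨F, fF, ftF, e, hmodel⟩ := model_of_hasIrr h
    have := card_dvd_of_model hinj hcard e hmodel
    rwa [Subgroup.index_ker]
  · exact absurd rfl h2

theorem index_dvd_of_section {G : Type*} [Group G] [Finite G] (hsol : Group.IsSolvable G)
    (N Z : Subgroup G) [hN : N.Normal] [hZ : Z.Normal]
    (hsq : ∀ g ∈ N, g ^ 2 ∈ Z) (hcomm : ∀ g ∈ N, ∀ h ∈ N, g * h * g⁻¹ * h⁻¹ ∈ Z)
    {d p : ℕ} (hd : 2 ≤ d) (hidx : Z.relIndex N = 2 ^ d) (hp : p.Prime) (hp2 : p ≠ 2)
    (hppd : ∀ k, 0 < k → k < d → ¬ p ∣ 2 ^ k - 1) {x : G} (hxp : x ^ p = 1)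
    (hx : ∃ a ∈ N, a * x * a⁻¹ * x⁻¹ ∉ Z) :
    ∃ C : Subgroup G, (∀ g, g ∈ C ↔ ∀ a ∈ N, a * g * a⁻¹ * g⁻¹ ∈ Z) ∧
      C.index ∣ (2 ^ d - 1) * d := by
  classical
  have hZiff : ∀ g a : G, (g * a * g⁻¹)⁻¹ * a ∈ Z ↔ a * g * a⁻¹ * g⁻¹ ∈ Z := by
    intro g a
    rw [hZ.mem_comm_iff]
    have : a * (g * a * g⁻¹)⁻¹ = a * g * a⁻¹ * g⁻¹ := by group
    rw [this]
  let Z' : Subgroup ↥N := Z.subgroupOf N
  haveI : Z'.Normal := inferInstance
  letI cg : CommGroup (↥N ⧸ Z') :=
    { (inferInstance : Group (↥N ⧸ Z')) with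
      mul_comm := by
        intro a b
        induction a using QuotientGroup.induction_on with
        | _ a =>
          induction b using QuotientGroup.induction_on with
          | _ b =>
            rw [← QuotientGroup.mk_mul, ← QuotientGroup.mk_mul, QuotientGroup.eq]
            show ((a * b)⁻¹ * (b * a) : ↥N) ∈ Z.subgroupOf N
            rw [Subgroup.mem_subgroupOf]
            have := hcomm _ (N.inv_mem b.2) _ (N.inv_mem a.2)
            simpa [mul_assoc] using this }
  have hpow2 : ∀ a : ↥N ⧸ Z', a ^ 2 = 1 := by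
    intro a
    induction a using QuotientGroup.induction_on with
    | _ a =>
      rw [← QuotientGroup.mk_pow, QuotientGroup.eq_one_iff]
      show (a ^ 2 : ↥N) ∈ Z.subgroupOf N
      rw [Subgroup.mem_subgroupOf]
      simpa using hsq a a.2
  letI : Module (ZMod 2) (Additive (↥N ⧸ Z')) := AddCommGroup.zmodModule (n := 2) (by
    intro a
    show Additive.ofMul (a.toMul ^ 2) = 0
    rw [hpow2]
    rfl)
  let θ : G → (↥N ⧸ Z') →* (↥N ⧸ Z') := fun g =>
    QuotientGroup.map Z' Z' ((MulAut.conjNormal g : MulAut ↥N).toMonoidHom) (by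
      intro a ha
      rw [Subgroup.mem_comap]
      show (MulAut.conjNormal g a : ↥N) ∈ Z.subgroupOf N
      rw [Subgroup.mem_subgroupOf, MulAut.conjNormal_apply]
      exact hZ.conj_mem _ (Subgroup.mem_subgroupOf.mp ha) g)
  have hθ : ∀ g (a : ↥N), θ g (QuotientGroup.mk a) = QuotientGroup.mk (MulAut.conjNormal g a) :=
    fun g a => rfl
  have hθmul : ∀ g h a, θ (g * h) a = θ g (θ h a) := by
    intro g h a
    induction a using QuotientGroup.induction_on with
    | _ a =>
      rw [hθ, hθ, hθ, map_mul]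
      rfl
  have hθone : ∀ a, θ 1 a = a := by
    intro a
    induction a using QuotientGroup.induction_on with
    | _ a =>
      rw [hθ, map_one]
      rfl
  let lin : G → (Additive (↥N ⧸ Z') →ₗ[ZMod 2] Additive (↥N ⧸ Z')) := fun g =>
    AddMonoidHom.toZModLinearMap 2 (MonoidHom.toAdditive (θ g))
  have hlin : ∀ g a, lin g a = Additive.ofMul (θ g a.toMul) := fun g a => rfl
  have hlinmul : ∀ g h, lin (g * h) = (lin g).comp (lin h) := by
    intro g h
    ext a
    rw [LinearMap.comp_apply, hlin, hlin, hlin, hθmul]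
    rfl
  have hlinone : lin 1 = LinearMap.id := by
    ext a
    rw [hlin, hθone]
    rfl
  let φ : G →* (Additive (↥N ⧸ Z') ≃ₗ[ZMod 2] Additive (↥N ⧸ Z')) := MonoidHom.mk'
    (fun g => LinearEquiv.ofLinear (lin g) (lin g⁻¹)
      (by rw [← hlinmul, mul_inv_cancel, hlinone]) (by rw [← hlinmul, inv_mul_cancel, hlinone]))
    (by
      intro g h
      ext a
      show lin (g * h) a = lin g (lin h a)
      rw [hlinmul]
      rfl)
  have hφ : ∀ g a, φ g a = Additive.ofMul (θ g a.toMul) := fun g a => rfl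
  have hker : ∀ g, g ∈ φ.ker ↔ ∀ a ∈ N, a * g * a⁻¹ * g⁻¹ ∈ Z := by
    intro g
    rw [MonoidHom.mem_ker]
    constructor
    · intro h a ha
      have h1 : φ g (Additive.ofMul (QuotientGroup.mk (⟨a, ha⟩ : ↥N))) =
          Additive.ofMul (QuotientGroup.mk (⟨a, ha⟩ : ↥N)) := by rw [h]; rfl
      rw [hφ] at h1
      have h2 : θ g (QuotientGroup.mk (⟨a, ha⟩ : ↥N)) = QuotientGroup.mk (⟨a, ha⟩ : ↥N) := h1
      rw [hθ, QuotientGroup.eq] at h2
      have h3 : ((MulAut.conjNormal g (⟨a, ha⟩ : ↥N))⁻¹ * ⟨a, ha⟩ : ↥N) ∈ Z.subgroupOf N := h2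
      rw [Subgroup.mem_subgroupOf] at h3
      rw [← hZiff]
      simpa [MulAut.conjNormal_apply] using h3
    · intro h
      ext a
      rw [hφ]
      show Additive.ofMul (θ g a.toMul) = a
      have h4 : θ g a.toMul = a.toMul := by
        generalize a.toMul = b
        induction b using QuotientGroup.induction_on with
        | _ b =>
          rw [hθ, QuotientGroup.eq]
          show ((MulAut.conjNormal g b)⁻¹ * b : ↥N) ∈ Z.subgroupOf N
          rw [Subgroup.mem_subgroupOf]
          have := (hZiff g b).mpr (h b b.2)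
          simpa [MulAut.conjNormal_apply] using this
      rw [h4]
      rfl
  refine ⟨φ.ker, hker, ?_⟩
  have hcard : Nat.card (Additive (↥N ⧸ Z')) = 2 ^ d := by
    rw [Nat.card_congr Additive.toMul, ← Subgroup.index_eq_card]
    exact hidx
  apply rec_linear hsol φ hd hcard hp hp2 hppd hxp
  intro h1
  have : x ∈ φ.ker := h1
  rw [hker] at this
  obtain ⟨a, ha, haZ⟩ := hx
  exact haZ (this a ha)

end Cfsg.Agent.Lib.H4.Hup
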