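import Mathlib
import Cfsg.Agent.Lib.H4.Hup.Rec
import Cfsg.Agent.Lib.H4.Hup.Arith

/-!
# The case of a primitive prime divisor (helper4)
-/

set_option autoImplicit false

namespace Cfsg.Agent.Lib.H4.Hup

open Function

variable {q : ℕ} [hq : Fact q.Prime] {V : Type*} [AddCommGroup V] [Module (ZMod q) V] [Finite V]
variable {G : Type*} [Group G] [Finite G]
variable {ρ : G →* (V ≃ₗ[ZMod q] V)} {n p : ℕ} {x : G}

theorem card_scal_dvd [Nontrivial V] (hinj : Injective ρ) : Nat.card (scal ρ) ∣ q - 1 := by
  obtain ⟨v0, hv0⟩ := exists_ne (0 : V)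
  have hex : ∀ g : scal ρ, ∃ z : ZMod q, ∀ v, ρ (g : G) v = z • v := fun g => g.2
  choose z hz using hex
  have huniq : ∀ (g : scal ρ) (w : ZMod q), (∀ v, ρ (g : G) v = w • v) → w = z g := by
    intro g w hw
    have h1 : w • v0 = z g • v0 := by rw [← hw, ← hz]
    have h2 : (w - z g) • v0 = 0 := by rw [sub_smul, h1, sub_self]
    exact sub_eq_zero.mp ((smul_eq_zero.mp h2).resolve_right hv0)
  let f : scal ρ →* ZMod q :=
    { toFun := z
      map_one' := (huniq 1 1 (fun v => by
        rw [one_smul, Subgroup.coe_one, map_one]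
        rfl)).symm
      map_mul' := fun g h => (huniq (g * h) (z g * z h) (fun v => by
        rw [Subgroup.coe_mul, map_mul, LinearEquiv.mul_apply, hz h, map_smul, hz g, smul_smul,
          mul_comm])).symm }
  have hf : Injective f := by
    intro g h hgh
    apply Subtype.ext
    apply hinj
    ext v
    rw [hz g, hz h]
    show z g • v = z h • v
    rw [show z g = z h from hgh]
  have := Cfsg.Agent.Lib.H4.NF.FinDomain.card_dvd_of_injective (p := q) f hf
  rwa [Module.finrank_self, pow_one] at this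

theorem ppd_case [Nontrivial V] (hsol : Group.IsSolvable G) (h : Ctx ρ n p x)
    (hdvd : q ^ n - 1 ∣ Nat.card G) :
    (∃ (F : Type) (_ : Field F) (_ : Fintype F) (e : V ≃+ F),
        ∀ g : G, ∃ (a : F) (σ : F ≃+* F), ∀ v : V, e (ρ g v) = a * σ (e v)) ∨
      Nat.card V ∈ ({9, 25, 49, 121, 529, 81} : Set ℕ) := by
  rcases dichotomy hsol h with h1 | ⟨hq2, ⟨m, hm1, hnm⟩, hpn, N, hN⟩
  · left
    exact model_of_hasIrr h1
  · right
    rw [h.card]
    apply arith_final hq.out hq2 hm1 hnm (hpn ▸ h.prime)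
    haveI := hN.normal
    have hnn : 2 ^ (2 * m) = n * n := by
      rw [hnm, ← pow_add]
      congr 1
      omega
    have hidx : (scal ρ).relIndex N = 2 ^ (2 * m) := by rw [hN.relIndex, hnn]
    have hn2 := h.two_le
    have hp2 : p ≠ 2 := by omega
    have hppd : ∀ k, 0 < k → k < 2 * m → ¬ p ∣ 2 ^ k - 1 := by
      rw [hpn, hnm]
      exact fermat_ppd hm1
    have hcardN : Nat.card N = Nat.card (scal ρ) * (n * n) := by
      have := Subgroup.relIndex_mul_relIndex ⊥ (scal ρ) N bot_le hN.le
      rw [Subgroup.relIndex_bot_left, Subgroup.relIndex_bot_left, hN.relIndex] at this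
      exact this.symm
    have hxN : x ∉ N := by
      intro hxN
      have hord : orderOf x = p := by
        haveI : Fact p.Prime := ⟨h.prime⟩
        exact orderOf_eq_prime h.pow h.ne_one
      have h1 : orderOf (⟨x, hxN⟩ : ↥N) ∣ Nat.card N := orderOf_dvd_natCard _
      rw [← Subgroup.orderOf_coe, hord, hcardN] at h1
      rcases h.prime.dvd_mul.mp h1 with h2 | h2
      · have h3 : p ∣ q ^ 1 - 1 := by
          rw [pow_one]
          exact h2.trans (card_scal_dvd h.inj)
        exact h.ppd 1 (by omega) (by omega) h3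
      · have h3 : p ∣ n := by
          rcases h.prime.dvd_mul.mp h2 with h4 | h4 <;> exact h4
        have := Nat.le_of_dvd (by omega) h3
        omega
    have hx : ∃ a ∈ N, a * x * a⁻¹ * x⁻¹ ∉ scal ρ := by
      by_contra hall
      push Not at hall
      exact hxN (hN.self_cent x hall)
    obtain ⟨C, hC, hCidx⟩ := index_dvd_of_section hsol N (scal ρ) hN.sq hN.comm
      (by omega : 2 ≤ 2 * m) hidx h.prime hp2 hppd h.pow hx
    have hCN : C = N := by
      ext g
      rw [hC]
      exact ⟨hN.self_cent g, fun hg a ha => hN.comm a ha g hg⟩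
    rw [hCN, hnn] at hCidx
    have hcardG : Nat.card G = Nat.card (scal ρ) * (n * n) * N.index := by
      rw [← hcardN, Subgroup.card_mul_index]
    rw [hcardG] at hdvd
    refine hdvd.trans ?_
    rw [mul_assoc]
    apply Nat.mul_dvd_mul (card_scal_dvd h.inj)
    exact Nat.mul_dvd_mul_left _ hCidx

end Cfsg.Agent.Lib.H4.Hup
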