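import Mathlib
import Cfsg.Agent.Lib.H4.Hup.Count

/-!
# Transitivity implies quasi-primitivity (helper4)

If `G` is transitive on the non-zero vectors then for every normal abelian subgroup `A` all non-zero
elements of the algebra `kk ρ A` are injective.
-/

set_option autoImplicit false

namespace Cfsg.Agent.Lib.H4.Hup

open Function

variable {q : ℕ} [Fact q.Prime] {V : Type*} [AddCommGroup V] [Module (ZMod q) V]
variable {G : Type*} [Group G]
variable {ρ : G →* (V ≃ₗ[ZMod q] V)}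

theorem conj_mem_kk (A : Subgroup G) (hA : A.Normal) (g : G) {c : Module.End (ZMod q) V}
    (hc : c ∈ kk ρ A) : toEnd ρ g * c * toEnd ρ g⁻¹ ∈ kk ρ A := by
  unfold kk at hc ⊢
  induction hc using Algebra.adjoin_induction with
  | mem c hc =>
    obtain ⟨a, ha, rfl⟩ := hc
    rw [← map_mul, ← map_mul]
    exact Algebra.subset_adjoin ⟨g * a * g⁻¹, hA.conj_mem a ha g, rfl⟩
  | algebraMap r =>
    rw [← Algebra.commutes, mul_assoc, toEnd_mul_inv, mul_one]
    exact Subalgebra.algebraMap_mem _ r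
  | add x y _ _ hx hy =>
    rw [mul_add, add_mul]
    exact Subalgebra.add_mem _ hx hy
  | mul x y _ _ hx hy =>
    have : toEnd ρ g * (x * y) * toEnd ρ g⁻¹ =
        (toEnd ρ g * x * toEnd ρ g⁻¹) * (toEnd ρ g * y * toEnd ρ g⁻¹) := by
      calc toEnd ρ g * (x * y) * toEnd ρ g⁻¹
          = toEnd ρ g * x * 1 * y * toEnd ρ g⁻¹ := by rw [mul_one]; simp only [mul_assoc]
        _ = toEnd ρ g * x * (toEnd ρ g⁻¹ * toEnd ρ g) * y * toEnd ρ g⁻¹ := by
            rw [toEnd_inv_mul]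
        _ = _ := by simp only [mul_assoc]
    rw [this]
    exact Subalgebra.mul_mem _ hx hy

theorem kk_comm_of_abelian (A : Subgroup G) (hab : ∀ a ∈ A, ∀ b ∈ A, a * b = b * a)
    {c d : Module.End (ZMod q) V} (hc : c ∈ kk ρ A) (hd : d ∈ kk ρ A) : c * d = d * c := by
  apply commute_kk ρ _ hc
  intro a ha
  apply (commute_kk ρ _ hd).symm
  intro b hb
  rw [← map_mul, ← map_mul, hab b hb a ha]

/-- the orbit of a vector under the algebra -/
def orb (ρ : G →* (V ≃ₗ[ZMod q] V)) (A : Subgroup G) (v : V) : Set V :=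
  {w | ∃ c ∈ kk ρ A, w = c v}

theorem self_mem_orb (A : Subgroup G) (v : V) : v ∈ orb ρ A v :=
  ⟨1, Subalgebra.one_mem _, rfl⟩

variable [Finite V]

theorem star_of_transitive (htrans : ∀ v w : V, v ≠ 0 → w ≠ 0 → ∃ g : G, ρ g v = w)
    (A : Subgroup G) (hA : A.Normal) (hab : ∀ a ∈ A, ∀ b ∈ A, a * b = b * a) : Star ρ A := by
  have hle : ∀ v w : V, v ≠ 0 → w ≠ 0 → (orb ρ A v).ncard ≤ (orb ρ A w).ncard := by
    intro v w hv hw
    obtain ⟨g, hg⟩ := htrans v w hv hw
    have hsub : (ρ g) '' (orb ρ A v) ⊆ orb ρ A w := by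
      rintro _ ⟨u, ⟨c, hc, rfl⟩, rfl⟩
      refine ⟨toEnd ρ g * c * toEnd ρ g⁻¹, conj_mem_kk A hA g hc, ?_⟩
      rw [← hg]
      show ρ g (c v) = toEnd ρ g (c (toEnd ρ g⁻¹ (ρ g v)))
      have : toEnd ρ g⁻¹ (ρ g v) = v := by
        rw [← toEnd_apply ρ g v, ← Module.End.mul_apply, toEnd_inv_mul, Module.End.one_apply]
      rw [this]
      rfl
    calc (orb ρ A v).ncard = ((ρ g) '' (orb ρ A v)).ncard :=
          (Set.ncard_image_of_injective _ (ρ g).injective).symm
      _ ≤ (orb ρ A w).ncard := Set.ncard_le_ncard hsub (Set.toFinite _)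
  -- (1) : `v ∈ R c v` when `c v ≠ 0`
  have h1 : ∀ c ∈ kk ρ A, ∀ v : V, c v ≠ 0 → ∃ d ∈ kk ρ A, d (c v) = v := by
    intro c hc v hcv
    have hv : v ≠ 0 := by
      rintro rfl
      exact hcv (map_zero c)
    have hsub : orb ρ A (c v) ⊆ orb ρ A v := by
      rintro _ ⟨d, hd, rfl⟩
      exact ⟨d * c, Subalgebra.mul_mem _ hd hc, rfl⟩
    have heq : orb ρ A (c v) = orb ρ A v :=
      Set.eq_of_subset_of_ncard_le hsub (hle v (c v) hv hcv) (Set.toFinite _)
    have : v ∈ orb ρ A (c v) := by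
      rw [heq]
      exact self_mem_orb A v
    obtain ⟨d, hd, hdv⟩ := this
    exact ⟨d, hd, hdv.symm⟩
  intro c hc hc0
  rw [← LinearMap.ker_eq_bot, Submodule.eq_bot_iff]
  intro u hu
  rw [LinearMap.mem_ker] at hu
  by_contra hu0
  obtain ⟨v, hv⟩ : ∃ v, c v ≠ 0 := by
    by_contra hall
    push Not at hall
    apply hc0
    ext v
    rw [hall v, LinearMap.zero_apply]
  have hcuv : c (u + v) = c v := by rw [map_add, hu, zero_add]
  obtain ⟨d, hd, hd1⟩ := h1 c hc (u + v) (by rw [hcuv]; exact hv)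
  rw [hcuv] at hd1
  obtain ⟨d2, hd2, hd3⟩ := h1 c hc v hv
  -- `u = (d - d2) (c v)`
  have hu1 : u = (d - d2) (c v) := by
    rw [LinearMap.sub_apply, hd1, hd3, add_sub_cancel_right]
  have hd' : d - d2 ∈ kk ρ A := Subalgebra.sub_mem _ hd hd2
  -- `c (c v) ≠ 0`
  have hccv : c (c v) ≠ 0 := by
    intro h0
    apply hv
    have : c v = d2 (c (c v)) := by
      have hcomm := kk_comm_of_abelian A hab hc hd2
      have h2 : c (d2 (c v)) = d2 (c (c v)) := by
        rw [← Module.End.mul_apply, hcomm, Module.End.mul_apply]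
      rw [← h2, hd3]
    rw [this, h0, map_zero]
  obtain ⟨d3, hd3m, hd4⟩ := h1 c hc (c v) hccv
  apply hu0
  have h5 : (d - d2) (c (c v)) = 0 := by
    have hcomm := kk_comm_of_abelian A hab hd' hc
    rw [← Module.End.mul_apply, hcomm, Module.End.mul_apply, ← hu1, hu]
  have hcomm2 := kk_comm_of_abelian A hab hd' hd3m
  calc u = (d - d2) (c v) := hu1
    _ = (d - d2) (d3 (c (c v))) := by rw [hd4]
    _ = d3 ((d - d2) (c (c v))) := by
        rw [← Module.End.mul_apply, hcomm2, Module.End.mul_apply]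
    _ = 0 := by rw [h5, map_zero]

end Cfsg.Agent.Lib.H4.Hup
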