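import Mathlib
import Cfsg.Agent.Lib.H4.Hup.QP1

/-!
# Maximal normal abelian subgroups and class two extensions (helper4)

`MaxAb A` : `A` is a maximal normal abelian subgroup.  `InFam A N` : `N` is normal, `A ≤ N ≤ C_G(A)`
and `[N, N] ≤ A`.  For `N` maximal in this family: `Z(N) = A`, `Hyp ρ N A`, and every normal subgroup
of `G` centralizing `A` and `N` lies in `A`.
-/

set_option autoImplicit false

namespace Cfsg.Agent.Lib.H4.Hup

open Function
open scoped commutatorElement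

variable {G : Type*} [Group G]

structure MaxAb (A : Subgroup G) : Prop where
  normal : A.Normal
  ab : ∀ a ∈ A, ∀ b ∈ A, a * b = b * a
  max : ∀ B : Subgroup G, B.Normal → (∀ a ∈ B, ∀ b ∈ B, a * b = b * a) → A ≤ B → B ≤ A

theorem exists_maxAb [Finite G] : ∃ A : Subgroup G, MaxAb A := by
  let P : Subgroup G → Prop := fun B => B.Normal ∧ ∀ a ∈ B, ∀ b ∈ B, a * b = b * a
  have h0 : P ⊥ := by
    refine ⟨inferInstance, ?_⟩
    intro a ha b hb
    rw [Subgroup.mem_bot] at ha hb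
    rw [ha, hb]
  obtain ⟨A, -, ⟨hAn, hAab⟩, hAmax⟩ := exists_maximal_ge_of_wellFoundedGT P ⊥ h0
  exact ⟨A, hAn, hAab, fun B hBn hBab hAB => hAmax ⟨hBn, hBab⟩ hAB⟩

/-- a term of the derived series of `M` not contained in `B` with derived group in `B` -/
theorem exists_derived_term (hsol : Group.IsSolvable G) (M B : Subgroup G) (hM : M.Normal)
    (hMB : ¬ M ≤ B) :
    ∃ M1 : Subgroup G, M1.Normal ∧ M1 ≤ M ∧ ¬ M1 ≤ B ∧ ⁅M1, M1⁆ ≤ B := by
  classical
  let D : ℕ → Subgroup G := fun k => Nat.rec M (fun _ H => ⁅H, H⁆) k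
  have hD0 : D 0 = M := rfl
  have hDs : ∀ k, D (k + 1) = ⁅D k, D k⁆ := fun k => rfl
  have hDn : ∀ k, (D k).Normal := by
    intro k
    induction k with
    | zero => exact hM
    | succ k ih =>
      rw [hDs]
      haveI := ih
      exact @Subgroup.commutator_normal _ _ (D k) (D k) ih ih
  have hDle : ∀ k, D k ≤ M := by
    intro k
    induction k with
    | zero => exact le_rfl
    | succ k ih =>
      rw [hDs]
      exact (@Subgroup.commutator_le_right _ _ (D k) (D k) (hDn k)).trans ih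
  have hDder : ∀ k, D k ≤ derivedSeries G k := by
    intro k
    induction k with
    | zero => exact le_top
    | succ k ih =>
      rw [hDs, derivedSeries_succ]
      exact Subgroup.commutator_mono ih ih
  obtain ⟨k1, hk1⟩ := hsol.solvable
  have hex : D k1 ≤ B := by
    have := hDder k1
    rw [hk1] at this
    exact this.trans bot_le
  have key : ∀ k, D k ≤ B → ∃ j, ¬ D j ≤ B ∧ D (j + 1) ≤ B := by
    intro k
    induction k with
    | zero => intro h; exact absurd h hMB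
    | succ k ih =>
      intro h
      rcases Classical.em (D k ≤ B) with hk | hk
      · exact ih hk
      · exact ⟨k, hk, h⟩
  obtain ⟨j, hj1, hj2⟩ := key k1 hex
  exact ⟨D j, hDn j, hDle j, hj1, hj2⟩

/-- the family of class-two extensions of `A` -/
def InFam (A N : Subgroup G) : Prop :=
  N.Normal ∧ A ≤ N ∧ N ≤ Subgroup.centralizer (A : Set G) ∧ ⁅N, N⁆ ≤ A

theorem MaxAb.inFam_self {A : Subgroup G} (hA : MaxAb A) : InFam A A := by
  refine ⟨hA.normal, le_rfl, ?_, ?_⟩
  · intro a ha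
    rw [Subgroup.mem_centralizer_iff]
    intro b hb
    exact hA.ab b hb a ha
  · rw [Subgroup.commutator_le]
    intro a ha b hb
    rw [commutatorElement_def]
    exact A.mul_mem (A.mul_mem (A.mul_mem ha hb) (A.inv_mem ha)) (A.inv_mem hb)

theorem comm_mul_mul {n m n' m' : G} (h1 : Commute m n) (h2 : Commute m n') (h3 : Commute m' n)
    (h4 : Commute m' n') :
    (n * m) * (n' * m') * (n * m)⁻¹ * (n' * m')⁻¹ =
      (n * n' * n⁻¹ * n'⁻¹) * (m * m' * m⁻¹ * m'⁻¹) := by
  have c1 : Commute (m * m' * m⁻¹) n⁻¹ := ((h1.mul_left h3).mul_left h1.inv_left).inv_right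
  have c2 : Commute (m * m' * m⁻¹ * m'⁻¹) n'⁻¹ :=
    (((h2.mul_left h4).mul_left h2.inv_left).mul_left h4.inv_left).inv_right
  calc (n * m) * (n' * m') * (n * m)⁻¹ * (n' * m')⁻¹
      = n * (m * n') * m' * m⁻¹ * n⁻¹ * m'⁻¹ * n'⁻¹ := by group
    _ = n * (n' * m) * m' * m⁻¹ * n⁻¹ * m'⁻¹ * n'⁻¹ := by rw [h2.eq]
    _ = n * n' * ((m * m' * m⁻¹) * n⁻¹) * m'⁻¹ * n'⁻¹ := by group
    _ = n * n' * (n⁻¹ * (m * m' * m⁻¹)) * m'⁻¹ * n'⁻¹ := by rw [c1.eq]
    _ = n * n' * n⁻¹ * ((m * m' * m⁻¹ * m'⁻¹) * n'⁻¹) := by group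
    _ = n * n' * n⁻¹ * (n'⁻¹ * (m * m' * m⁻¹ * m'⁻¹)) := by rw [c2.eq]
    _ = (n * n' * n⁻¹ * n'⁻¹) * (m * m' * m⁻¹ * m'⁻¹) := by group

/-- enlarging a member of the family by a commuting normal subgroup -/
theorem InFam.sup {A N M1 : Subgroup G} (hN : InFam A N) (hM1n : M1.Normal)
    (hM1A : M1 ≤ Subgroup.centralizer (A : Set G)) (hM1N : M1 ≤ Subgroup.centralizer (N : Set G))
    (hM1c : ⁅M1, M1⁆ ≤ A) : InFam A (N ⊔ M1) := by
  obtain ⟨hNn, hAN, hNC, hNc⟩ := hN
  haveI := hNn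
  haveI := hM1n
  refine ⟨inferInstance, hAN.trans le_sup_left, sup_le hNC hM1A, ?_⟩
  rw [Subgroup.commutator_le]
  intro g hg h hh
  obtain ⟨n, hn, m, hm, rfl⟩ := Subgroup.mem_sup_of_normal_right.mp hg
  obtain ⟨n', hn', m', hm', rfl⟩ := Subgroup.mem_sup_of_normal_right.mp hh
  have hc : ∀ {m n : G}, m ∈ M1 → n ∈ N → Commute m n := by
    intro m n hm hn
    have := Subgroup.mem_centralizer_iff.mp (hM1N hm) n hn
    exact this.symm
  rw [commutatorElement_def, comm_mul_mul (hc hm hn) (hc hm hn') (hc hm' hn) (hc hm' hn')]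
  apply A.mul_mem
  · apply hNc
    have := Subgroup.commutator_mem_commutator hn hn'
    rwa [commutatorElement_def] at this
  · apply hM1c
    have := Subgroup.commutator_mem_commutator hm hm'
    rwa [commutatorElement_def] at this

section maxN

variable {A N : Subgroup G} (hA : MaxAb A) (hN : Maximal (InFam A) N)
include hA hN

/-- `Z(N) = A` -/
theorem center_le_of_max {g : G} (hg : g ∈ N) (hgc : ∀ h ∈ N, g * h = h * g) : g ∈ A := by
  obtain ⟨hNn, hAN, hNC, hNc⟩ := hN.prop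
  haveI := hNn
  let Z : Subgroup G := N ⊓ Subgroup.centralizer (N : Set G)
  have hZn : Z.Normal := inferInstance
  have hZab : ∀ a ∈ Z, ∀ b ∈ Z, a * b = b * a := by
    intro a ha b hb
    have := Subgroup.mem_centralizer_iff.mp (Subgroup.mem_inf.mp ha).2 b (Subgroup.mem_inf.mp hb).1
    exact this.symm
  have hAZ : A ≤ Z := by
    intro a ha
    refine Subgroup.mem_inf.mpr ⟨hAN ha, ?_⟩
    rw [Subgroup.mem_centralizer_iff]
    intro h hh
    have := Subgroup.mem_centralizer_iff.mp (hNC hh) a ha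
    exact this.symm
  apply hA.max Z hZn hZab hAZ
  refine Subgroup.mem_inf.mpr ⟨hg, ?_⟩
  rw [Subgroup.mem_centralizer_iff]
  intro h hh
  exact (hgc h hh).symm

/-- normal subgroups centralizing `A` and `N` lie in `A` -/
theorem le_of_centralizes (hsol : Group.IsSolvable G) (M : Subgroup G) (hMn : M.Normal)
    (hMA : M ≤ Subgroup.centralizer (A : Set G)) (hMN : M ≤ Subgroup.centralizer (N : Set G)) :
    M ≤ A := by
  by_contra hMnot
  obtain ⟨M1, hM1n, hM1M, hM1A, hM1c⟩ := exists_derived_term hsol M A hMn hMnot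
  have hfam : InFam A (N ⊔ M1) :=
    hN.prop.sup hM1n (hM1M.trans hMA) (hM1M.trans hMN) hM1c
  have hle : N ⊔ M1 ≤ N := hN.le_of_ge hfam le_sup_left
  apply hM1A
  intro m hm
  apply center_le_of_max hA hN (hle (Subgroup.mem_sup_right hm))
  intro h hh
  have := Subgroup.mem_centralizer_iff.mp (hMN (hM1M hm)) h hh
  exact this.symm

end maxN

theorem exists_maxN [Finite G] {A : Subgroup G} (hA : MaxAb A) : ∃ N, Maximal (InFam A) N := by
  obtain ⟨N, -, hN⟩ := exists_maximal_ge_of_wellFoundedGT (InFam A) A hA.inFam_self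
  exact ⟨N, hN⟩

/-- if `C_G(A) ≠ A` then `N ≠ A` -/
theorem ne_of_centralizer_ne {A N : Subgroup G} (hA : MaxAb A) (hN : Maximal (InFam A) N)
    (hsol : Group.IsSolvable G) {g : G} (hgC : g ∈ Subgroup.centralizer (A : Set G)) (hgA : g ∉ A) :
    N ≠ A := by
  intro hNA
  haveI := hA.normal
  apply hgA
  apply le_of_centralizes hA hN hsol (Subgroup.centralizer (A : Set G)) inferInstance le_rfl _ hgC
  rw [hNA]

end Cfsg.Agent.Lib.H4.Hup
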