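import Mathlib
import Cfsg.Agent.Lib.H4.NF.FinDomain
import Cfsg.Agent.Lib.H4.Hup.QP2
import Cfsg.Agent.Lib.H4.Hup.Bound

/-!
# The linear consequences for a maximal normal abelian subgroup (helper4)
-/

set_option autoImplicit false

namespace Cfsg.Agent.Lib.H4.Hup

open Function

variable {q : ℕ} [hq : Fact q.Prime] {V : Type*} [AddCommGroup V] [Module (ZMod q) V] [Finite V]
variable {G : Type*} [Group G] [Finite G]
variable {ρ : G →* (V ≃ₗ[ZMod q] V)}

theorem isDomain_kk [Nontrivial V] {A : Subgroup G} (hstar : Star ρ A) : IsDomain (kk ρ A) := by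
  haveI : Nontrivial (kk ρ A) := by
    refine ⟨⟨0, 1, ?_⟩⟩
    intro h
    obtain ⟨v, hv⟩ := exists_ne (0 : V)
    apply hv
    have h1 : (0 : Module.End (ZMod q) V) = 1 := congrArg Subtype.val h
    have := congrArg (fun f : Module.End (ZMod q) V => f v) h1
    simpa using this.symm
  haveI : NoZeroDivisors (kk ρ A) := by
    refine ⟨fun {a b} h => ?_⟩
    by_contra hne
    push Not at hne
    have ha : (a : Module.End (ZMod q) V) ≠ 0 := fun h0 => hne.1 (Subtype.ext h0)
    have hb : (b : Module.End (ZMod q) V) ≠ 0 := fun h0 => hne.2 (Subtype.ext h0)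
    exact mul_ne_zero_of_star hstar a.2 ha hb (congrArg Subtype.val h)
  exact NoZeroDivisors.to_isDomain _

/-- the degree of the field `kk ρ A` divides `n` -/
theorem card_kk_pow [Nontrivial V] {A : Subgroup G} (hstar : Star ρ A) {n : ℕ}
    (hcard : Nat.card V = q ^ n) :
    ∃ d e : ℕ, Nat.card (kk ρ A) = q ^ d ∧ n = d * e := by
  haveI : Finite (Module.End (ZMod q) V) := finite_end
  haveI := isDomain_kk hstar
  refine ⟨Module.finrank (ZMod q) (kk ρ A), Module.finrank (kk ρ A) V,
    Cfsg.Agent.Lib.H4.NF.FinDomain.card_eq (p := q) (R := kk ρ A), ?_⟩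
  have h1 := Cfsg.Agent.Lib.H4.NF.FinDomain.card_module (p := q) (R := kk ρ A) (M := V)
  rw [hcard] at h1
  exact Nat.pow_right_injective hq.out.two_le h1

/-- the order of `A` divides `|kk ρ A| - 1` -/
theorem card_dvd_card_kk [Nontrivial V] (hinj : Injective ρ) {A : Subgroup G} (hstar : Star ρ A) :
    Nat.card A ∣ Nat.card (kk ρ A) - 1 := by
  haveI : Finite (Module.End (ZMod q) V) := finite_end
  haveI := isDomain_kk hstar
  let f : A →* kk ρ A :=
    { toFun := fun a => ⟨toEnd ρ (a : G), toEnd_mem_kk ρ a.2⟩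
      map_one' := by apply Subtype.ext; simp
      map_mul' := by
        intro a b
        apply Subtype.ext
        simp }
  have hf : Injective f := by
    intro a b h
    have h1 : toEnd ρ (a : G) = toEnd ρ (b : G) := congrArg Subtype.val h
    apply Subtype.ext
    apply hinj
    ext v
    have := congrArg (fun g : Module.End (ZMod q) V => g v) h1
    simpa [toEnd_apply] using this
  have := Cfsg.Agent.Lib.H4.NF.FinDomain.card_dvd_of_injective (p := q) f hf
  rwa [← Cfsg.Agent.Lib.H4.NF.FinDomain.card_eq (p := q) (R := kk ρ A)] at this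

theorem kk_invariant {A : Subgroup G} (W : Submodule (ZMod q) V)
    (hW : ∀ a ∈ A, ∀ w ∈ W, ρ a w ∈ W) {c : Module.End (ZMod q) V} (hc : c ∈ kk ρ A) :
    ∀ w ∈ W, c w ∈ W := by
  unfold kk at hc
  induction hc using Algebra.adjoin_induction with
  | mem c hc =>
    obtain ⟨a, ha, rfl⟩ := hc
    intro w hw
    exact hW a ha w hw
  | algebraMap r =>
    intro w hw
    rw [Algebra.algebraMap_eq_smul_one, LinearMap.smul_apply, Module.End.one_apply]
    exact W.smul_mem r hw
  | add x y _ _ hx hy =>
    intro w hw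
    rw [LinearMap.add_apply]
    exact W.add_mem (hx w hw) (hy w hw)
  | mul x y _ _ hx hy =>
    intro w hw
    rw [Module.End.mul_apply]
    exact hx _ (hy w hw)

/-- if `kk ρ A` is as large as `V` then `A` is cyclic and irreducible -/
theorem hasIrr_of_card_kk [Nontrivial V] (hinj : Injective ρ) (A : Subgroup G) (hAn : A.Normal)
    (hab : ∀ a ∈ A, ∀ b ∈ A, a * b = b * a) (hstar : Star ρ A)
    (hcard : Nat.card V ≤ Nat.card (kk ρ A)) : HasIrr ρ := by
  haveI : Finite (Module.End (ZMod q) V) := finite_end
  haveI : IsCyclic ↥A := isCyclic_of_star ρ hinj A hab hstar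
  obtain ⟨a, ha⟩ := IsCyclic.exists_generator (α := ↥A)
  have hZa : Subgroup.zpowers (a : G) = A := by
    apply le_antisymm
    · rw [Subgroup.zpowers_le]
      exact a.2
    · intro z hz
      obtain ⟨j, hj⟩ := Subgroup.mem_zpowers_iff.mp (ha ⟨z, hz⟩)
      rw [Subgroup.mem_zpowers_iff]
      refine ⟨j, ?_⟩
      have := congrArg Subtype.val hj
      simpa using this
  refine ⟨a, by rw [hZa]; exact hAn, ?_⟩
  intro W hW
  by_cases hW0 : W = ⊥
  · exact Or.inl hW0
  · right
    obtain ⟨w, hw, hw0⟩ := (Submodule.ne_bot_iff W).mp hW0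
    have hWA : ∀ b ∈ A, ∀ w ∈ W, ρ b w ∈ W := by
      intro b hb w hw
      have hbz : b ∈ Subgroup.zpowers (a : G) := by rw [hZa]; exact hb
      have hbp : b ∈ Submonoid.powers (a : G) :=
        (isOfFinOrder_of_finite (a : G)).mem_powers_iff_mem_zpowers.mpr hbz
      obtain ⟨k, hk⟩ := Submonoid.mem_powers_iff _ _ |>.mp hbp
      rw [← hk, map_pow]
      exact pow_mem_of_invariant (ρ a) W hW k w hw
    let φ : kk ρ A → V := fun c => (c : Module.End (ZMod q) V) w
    have hφ : Injective φ := by
      intro c d hcd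
      by_contra hne
      have h1 : ((c : Module.End (ZMod q) V) - d) w = 0 := by
        rw [LinearMap.sub_apply]
        exact sub_eq_zero.mpr hcd
      have h2 : (c : Module.End (ZMod q) V) - d ≠ 0 := by
        intro h3
        exact hne (Subtype.ext (sub_eq_zero.mp h3))
      have h3 := hstar _ (Subalgebra.sub_mem _ c.2 d.2) h2
      apply hw0
      apply h3
      rw [h1, map_zero]
    have hbij := hφ.bijective_of_nat_card_le hcard
    rw [eq_top_iff]
    intro v _
    obtain ⟨c, hc⟩ := hbij.2 v
    rw [← hc]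
    exact kk_invariant W hWA c.2 w hw

section maxN

variable {A N : Subgroup G}

theorem hyp_of_max (hinj : Injective ρ) (hA : MaxAb A) (hN : Maximal (InFam A) N)
    (hstar : Star ρ A) : Hyp ρ N A := by
  obtain ⟨hNn, hAN, hNC, hNc⟩ := hN.prop
  exact
    { le := hAN
      cent := by
        intro a ha g hg
        exact Subgroup.mem_centralizer_iff.mp (hNC hg) a ha
      comm := by
        intro g hg h hh
        apply hNc
        have := Subgroup.commutator_mem_commutator hh hg
        rwa [commutatorElement_def] at this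
      sep := by
        intro g hg hgA
        by_contra hall
        push Not at hall
        apply hgA
        apply center_le_of_max hA hN hg
        intro h hh
        have h1 : h * g * h⁻¹ * g⁻¹ = 1 := by
          apply hinj
          rw [hall h hh, map_one]
        calc g * h = (h * g * h⁻¹ * g⁻¹)⁻¹ * (h * g) := by group
          _ = h * g := by rw [h1, inv_one, one_mul]
      star := hstar }

/-- the index of `A` in `N` is not a prime -/
theorem relIndex_not_prime (hA : MaxAb A) (hN : Maximal (InFam A) N) :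
    ¬ (A.relIndex N).Prime := by
  intro hpr
  obtain ⟨hNn, hAN, hNC, hNc⟩ := hN.prop
  have hne : ¬ N ≤ A := by
    intro hle
    have := Subgroup.relIndex_eq_one.mpr hle
    rw [this] at hpr
    exact Nat.not_prime_one hpr
  obtain ⟨g, hgN, hgA⟩ := SetLike.not_le_iff_exists.mp hne
  let H : Subgroup G := A ⊔ Subgroup.zpowers g
  have hAH : A ≤ H := le_sup_left
  have hHN : H ≤ N := sup_le hAN (by rw [Subgroup.zpowers_le]; exact hgN)
  have h1 := Subgroup.relIndex_mul_relIndex A H N hAH hHN
  have h2 : A.relIndex H ≠ 1 := by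
    intro h3
    rw [Subgroup.relIndex_eq_one] at h3
    exact hgA (h3 (Subgroup.mem_sup_right (Subgroup.mem_zpowers g)))
  have h3 : H.relIndex N = 1 := by
    rcases (Nat.dvd_prime hpr).mp (Dvd.intro _ h1) with h4 | h4
    · exact absurd h4 h2
    · rw [h4] at h1
      have hpos : 0 < A.relIndex N := hpr.pos
      exact Nat.eq_of_mul_eq_mul_left hpos (by rw [h1, mul_one])
  have hNH : N ≤ H := Subgroup.relIndex_eq_one.mp h3
  -- `g` is central in `N`
  apply hgA
  apply center_le_of_max hA hN hgN
  intro h hh
  have hle : H ≤ Subgroup.centralizer {g} := by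
    apply sup_le
    · intro a ha
      rw [Subgroup.mem_centralizer_iff]
      intro y hy
      rw [Set.mem_singleton_iff] at hy
      rw [hy]
      exact (Subgroup.mem_centralizer_iff.mp (hNC hgN) a ha).symm
    · rw [Subgroup.zpowers_le, Subgroup.mem_centralizer_iff]
      intro y hy
      rw [Set.mem_singleton_iff] at hy
      rw [hy]
  exact Subgroup.mem_centralizer_iff.mp (hle (hNH hh)) g rfl

end maxN

end Cfsg.Agent.Lib.H4.Hup
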