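import Mathlib
import Cfsg.Agent.Lib.H4.Hup.QP4

/-!
# The case `q = 2`, `n = 6` (helper4)
-/

set_option autoImplicit false

namespace Cfsg.Agent.Lib.H4.Hup

open Function

section general

variable {G : Type*} [Group G] [Finite G]

/-- the index of the centralizer of a normal subgroup of prime order -/
theorem index_centralizer_dvd {A : Subgroup G} (hAn : A.Normal) {r : ℕ} (hr : r.Prime)
    (hcard : Nat.card A = r) : (Subgroup.centralizer (A : Set G)).index ∣ r - 1 := by
  haveI := hAn
  haveI : Fact r.Prime := ⟨hr⟩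
  haveI : IsCyclic ↥A := isCyclic_of_prime_card hcard
  let φ : G →* MulAut ↥A := MulAut.conjNormal
  have hker : φ.ker = Subgroup.centralizer (A : Set G) := by
    ext g
    rw [MonoidHom.mem_ker, Subgroup.mem_centralizer_iff]
    constructor
    · intro h a ha
      have h1 : φ g ⟨a, ha⟩ = ⟨a, ha⟩ := by rw [h]; rfl
      have h2 : g * a * g⁻¹ = a := by
        have := congrArg Subtype.val h1
        rwa [MulAut.conjNormal_apply] at this
      calc a * g = (g * a * g⁻¹) * g := by rw [h2]
        _ = g * a := by group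
    · intro h
      ext a
      show ((φ g a : ↥A) : G) = a
      rw [MulAut.conjNormal_apply, ← h a a.2]
      group
  rw [← hker, Subgroup.index_ker]
  have h1 := Subgroup.card_subgroup_dvd_card φ.range
  rwa [IsCyclic.card_mulAut, hcard, Nat.totient_prime hr] at h1

/-- fixed points of conjugation by an element of prime order -/
theorem card_modEq_card_centralizer (x : G) {p : ℕ} (hp : p.Prime) (hx : x ^ p = 1)
    (N : Subgroup G) (hinv : ∀ s ∈ N, x * s * x⁻¹ ∈ N) :
    Nat.card N ≡ Nat.card (KQ x N) [MOD p] := by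
  classical
  haveI : Fact p.Prime := ⟨hp⟩
  haveI : Fintype ↥N := Fintype.ofFinite _
  let f : Function.End ↥N := fun g => ⟨x * g * x⁻¹, hinv g g.2⟩
  have hfk : ∀ (k : ℕ) (g : ↥N), (((f ^ k) g : ↥N) : G) = x ^ k * g * (x ^ k)⁻¹ := by
    intro k
    induction k with
    | zero =>
      intro g
      rw [pow_zero, pow_zero, one_mul, inv_one, mul_one]
      rfl
    | succ k ih =>
      intro g
      have h1 : (f ^ (k + 1)) g = (f ^ k) (f g) := by rw [pow_succ]; rfl
      rw [h1, ih, pow_succ]
      show x ^ k * (x * g * x⁻¹) * (x ^ k)⁻¹ = x ^ k * x * g * (x ^ k * x)⁻¹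
      group
  have hf : f ^ p ^ 1 = 1 := by
    funext g
    apply Subtype.ext
    rw [pow_one, hfk, hx, one_mul, inv_one, mul_one]
    rfl
  have h1 := Equiv.Perm.card_fixedPoints_modEq (p := p) (n := 1) hf
  have e : ↥(Function.fixedPoints f) ≃ ↥(KQ x N) :=
    { toFun := fun w => ⟨w.1.1, mem_KQ.mpr ⟨w.1.2, by
        have h2 : x * (w.1 : G) * x⁻¹ = w.1 := congrArg Subtype.val w.2
        calc x * (w.1 : G) = x * (w.1 : G) * x⁻¹ * x := by group
          _ = w.1 * x := by rw [h2]⟩⟩
      invFun := fun v => ⟨⟨v.1, (mem_KQ.mp v.2).1⟩, by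
        apply Subtype.ext
        show x * (v : G) * x⁻¹ = v
        rw [(mem_KQ.mp v.2).2, mul_assoc, mul_inv_cancel, mul_one]⟩
      left_inv := fun w => rfl
      right_inv := fun v => rfl }
  rw [Nat.card_eq_fintype_card, ← Nat.card_congr e, Nat.card_eq_fintype_card]
  exact h1

/-- the index of a maximal normal abelian subgroup of prime order in a maximal class two extension -/
theorem relIndex_pow_of_prime {A N : Subgroup G} (hA : MaxAb A) (hN : Maximal (InFam A) N) {r : ℕ}
    (hr : r.Prime) (hcard : Nat.card A = r) : ∃ m : ℕ, A.relIndex N = r ^ (2 * m) := by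
  haveI : Fact r.Prime := ⟨hr⟩
  obtain ⟨hNn, hAN, hNC, hNc⟩ := hN.prop
  haveI : Nontrivial ↥A := by
    rw [← Finite.one_lt_card_iff_nontrivial, hcard]
    exact hr.one_lt
  obtain ⟨z0', hz0'⟩ := exists_ne (1 : ↥A)
  have hgen : ∀ a : ↥A, a ∈ Subgroup.zpowers z0' := fun a => mem_zpowers_of_prime_card hcard hz0'
  have hz0r : z0' ^ r = 1 := by
    rw [← hcard]
    exact pow_card_eq_one'
  have hcen : A.subgroupOf N = Subgroup.center ↥N := by
    ext g
    rw [Subgroup.mem_subgroupOf, Subgroup.mem_center_iff]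
    constructor
    · intro hg h
      apply Subtype.ext
      exact (Subgroup.mem_centralizer_iff.mp (hNC h.2) g hg).symm
    · intro hg
      apply center_le_of_max hA hN g.2
      intro h hh
      have := hg ⟨h, hh⟩
      exact (congrArg Subtype.val this).symm
  let z0N : ↥N := ⟨z0', hAN z0'.2⟩
  have h1 : z0N ∈ Subgroup.center ↥N := by
    rw [← hcen, Subgroup.mem_subgroupOf]
    exact z0'.2
  have h2 : z0N ^ r = 1 := by
    apply Subtype.ext
    have := congrArg (fun a : ↥A => (a : G)) hz0r
    simpa [z0N] using this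
  have h3 : ∀ g h : ↥N, g * h * g⁻¹ * h⁻¹ ∈ Subgroup.zpowers z0N := by
    intro g h
    have hc : (g : G) * h * (g : G)⁻¹ * (h : G)⁻¹ ∈ A := by
      apply hNc
      have := Subgroup.commutator_mem_commutator g.2 h.2
      rwa [commutatorElement_def] at this
    obtain ⟨j, hj⟩ := Subgroup.mem_zpowers_iff.mp (hgen ⟨_, hc⟩)
    rw [Subgroup.mem_zpowers_iff]
    refine ⟨j, Subtype.ext ?_⟩
    have := congrArg (fun a : ↥A => (a : G)) hj
    simpa [z0N] using this
  obtain ⟨m, hm⟩ := index_center_sq hr z0N h1 h2 h3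
  exact ⟨m, by rw [Subgroup.relIndex, hcen, hm]⟩

end general

variable {V : Type*} [AddCommGroup V] [Module (ZMod 2) V] [Finite V]
variable {G : Type*} [Group G] [Finite G]
variable {ρ : G →* (V ≃ₗ[ZMod 2] V)}

theorem case_two_six [Nontrivial V] (hsol : Group.IsSolvable G) (hinj : Injective ρ)
    (htrans : ∀ v w : V, v ≠ 0 → w ≠ 0 → ∃ g : G, ρ g v = w) (hcard : Nat.card V = 2 ^ 6)
    (hdvd : 63 ∣ Nat.card G) : HasIrr ρ := by
  haveI : Finite (Module.End (ZMod 2) V) := finite_end
  obtain ⟨A, hA⟩ := exists_maxAb (G := G)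
  obtain ⟨N, hN⟩ := exists_maxN hA
  have hstar : Star ρ A := star_of_transitive htrans A hA.normal hA.ab
  obtain ⟨d, e, hk, hde⟩ := card_kk_pow hstar hcard
  by_cases hd6 : d = 6
  · apply hasIrr_of_card_kk hinj A hA.normal hA.ab hstar
    rw [hcard, hk, hd6]
  exfalso
  have hd : d = 1 ∨ d = 2 ∨ d = 3 := by
    have h1 : d ∣ 6 := Dvd.intro e hde.symm
    have h2 : d ≤ 6 := Nat.le_of_dvd (by norm_num) h1
    interval_cases d <;> omega
  obtain ⟨hNn, hAN, hNC, hNc⟩ := hN.prop
  haveI := hNn
  haveI := hA.normal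
  have hAcard := card_dvd_card_kk hinj hstar
  rw [hk] at hAcard
  have hAne : A ≠ ⊥ := by
    intro hbot
    have hG : ¬ (⊤ : Subgroup G) ≤ ⊥ := by
      intro h
      have h1 : Nat.card G = 1 := by
        rw [← Subgroup.card_top (G := G), le_bot_iff.mp h, Subgroup.card_bot]
      rw [h1] at hdvd
      omega
    obtain ⟨M1, hM1n, -, hM1, hM1c⟩ := exists_derived_term hsol ⊤ ⊥ inferInstance hG
    apply hM1
    rw [← hbot]
    apply hA.max M1 hM1n _ (hbot ▸ bot_le)
    intro a ha b hb
    have := hM1c (Subgroup.commutator_mem_commutator ha hb)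
    rw [Subgroup.mem_bot, commutatorElement_def] at this
    calc a * b = (a * b * a⁻¹ * b⁻¹) * (b * a) := by group
      _ = b * a := by rw [this, one_mul]
  have hAcard1 : Nat.card A ≠ 1 := fun h => hAne (Subgroup.card_eq_one.mp h)
  have main : ∀ r : ℕ, r.Prime → Nat.card A = r → (r = 3 ∧ d = 2) ∨ (r = 7 ∧ d = 3) → False := by
    intro r hr hAr hcase
    have hCidx := index_centralizer_dvd hA.normal hr hAr
    have H : Hyp ρ N A := hyp_of_max hinj hA hN hstar
    by_cases hCA : Subgroup.centralizer (A : Set G) ≤ A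
    · have hCeq : Subgroup.centralizer (A : Set G) = A := le_antisymm hCA hA.inFam_self.2.2.1
      rw [hCeq] at hCidx
      have hG : Nat.card G = r * A.index := by rw [← hAr, Subgroup.card_mul_index]
      have h1 : Nat.card G ∣ r * (r - 1) := by
        rw [hG]
        exact Nat.mul_dvd_mul_left r hCidx
      have h63 := hdvd.trans h1
      rcases hcase with ⟨rfl, -⟩ | ⟨rfl, -⟩
      · norm_num at h63
      · norm_num at h63
    · obtain ⟨g, hgC, hgA⟩ := SetLike.not_le_iff_exists.mp hCA
      have hNA : N ≠ A := ne_of_centralizer_ne hA hN hsol hgC hgA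
      obtain ⟨m, hm⟩ := relIndex_pow_of_prime hA hN hr hAr
      have hm1 : 1 ≤ m := by
        by_contra h0
        have : m = 0 := by omega
        rw [this, mul_zero, pow_zero, Subgroup.relIndex_eq_one] at hm
        exact hNA (le_antisymm hm hAN)
      have hcount := H.card_pow_le
      rw [card_end hcard, hk, hm, ← pow_mul] at hcount
      have hle : d * r ^ (2 * m) ≤ 6 * 6 := (Nat.pow_le_pow_iff_right (by norm_num)).mp hcount
      have hr2m : r ^ 2 ≤ r ^ (2 * m) := Nat.pow_le_pow_right hr.pos (by omega)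
      rcases hcase with ⟨rfl, rfl⟩ | ⟨rfl, rfl⟩
      · have hm' : m = 1 := by
          by_contra hne
          have h2 : 3 ^ 4 ≤ 3 ^ (2 * m) := Nat.pow_le_pow_right (by norm_num) (by omega)
          omega
        rw [hm', mul_one] at hm
        have hNcard : Nat.card N = 27 := by
          have := Subgroup.relIndex_mul_relIndex ⊥ A N bot_le hAN
          rw [Subgroup.relIndex_bot_left, Subgroup.relIndex_bot_left, hm, hAr] at this
          rw [← this]
          norm_num
        haveI : Fact (Nat.Prime 7) := ⟨by norm_num⟩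
        obtain ⟨x, hx⟩ := exists_prime_orderOf_dvd_card' 7 (Dvd.dvd.trans (by norm_num) hdvd)
        have hx7 : x ^ 7 = 1 := by
          rw [← hx]
          exact pow_orderOf_eq_one x
        have hxC : x ∈ Subgroup.centralizer (A : Set G) := by
          have h2 : x ^ 2 ∈ Subgroup.centralizer (A : Set G) := by
            have h3 := Subgroup.pow_index_mem (Subgroup.centralizer (A : Set G)) x
            rcases (Nat.dvd_prime Nat.prime_two).mp hCidx with h | h
            · rw [h, pow_one] at h3
              exact Subgroup.pow_mem _ h3 2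
            · rwa [h] at h3
          have h4 : x = (x ^ 2) ^ 4 := by
            rw [← pow_mul]
            show x = x ^ (7 + 1)
            rw [pow_succ, hx7, one_mul]
          rw [h4]
          exact Subgroup.pow_mem _ h2 4
        have hmod := card_modEq_card_centralizer x (by norm_num : Nat.Prime 7) hx7 N
          (fun s hs => hNn.conj_mem s hs x)
        rw [hNcard] at hmod
        have hKdvd : Nat.card (KQ x N) ∣ 27 := hNcard ▸ Subgroup.card_dvd_of_le KQ_le
        have hK27 : Nat.card (KQ x N) = 27 := by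
          have hle : Nat.card (KQ x N) ≤ 27 := Nat.le_of_dvd (by norm_num) hKdvd
          have hpos : 0 < Nat.card (KQ x N) := Nat.card_pos
          unfold Nat.ModEq at hmod
          generalize Nat.card (KQ x N) = k at hmod hKdvd hle hpos
          interval_cases k <;> simp_all (config := {decide := true})
        have hKN : KQ x N = N := Subgroup.eq_of_le_of_card_ge KQ_le (by rw [hK27, hNcard])
        have hxM : x ∈ Subgroup.centralizer (A : Set G) ⊓ Subgroup.centralizer (N : Set G) := by
          refine Subgroup.mem_inf.mpr ⟨hxC, ?_⟩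
          rw [Subgroup.mem_centralizer_iff]
          intro h hh
          have h5 : h ∈ KQ x N := by rw [hKN]; exact hh
          exact ((mem_KQ.mp h5).2).symm
        have hxA : x ∈ A :=
          le_of_centralizes hA hN hsol _ inferInstance inf_le_left inf_le_right hxM
        have hx3 : x ^ 3 = 1 := by
          have h6 := pow_card_eq_one' (G := ↥A) (x := ⟨x, hxA⟩)
          rw [hAr] at h6
          exact congrArg Subtype.val h6
        have h7 : orderOf x ∣ 3 := orderOf_dvd_of_pow_eq_one hx3
        rw [hx] at h7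
        omega
      · omega
  rcases hd with rfl | rfl | rfl
  · rw [show 2 ^ 1 - 1 = 1 from rfl] at hAcard
    exact hAcard1 (Nat.dvd_one.mp hAcard)
  · rw [show 2 ^ 2 - 1 = 3 from rfl] at hAcard
    rcases (Nat.dvd_prime Nat.prime_three).mp hAcard with h | h
    · exact hAcard1 h
    · exact main 3 Nat.prime_three h (Or.inl ⟨rfl, rfl⟩)
  · rw [show 2 ^ 3 - 1 = 7 from rfl] at hAcard
    rcases (Nat.dvd_prime (by norm_num : Nat.Prime 7)).mp hAcard with h | h
    · exact hAcard1 h
    · exact main 7 (by norm_num) h (Or.inr ⟨rfl, rfl⟩)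

end Cfsg.Agent.Lib.H4.Hup
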